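import Cfsg.Agent.Lib.Fusion.OrderPFive.CubeTorusMap

/-!
A group of order `p ^ 5`, `p` odd other than `7`, without an abelian subgroup of index `p`, and a
saturated system on it with an elementary abelian essential subgroup of order `p ^ 3`: then `p = 3`,
some element is fixed modulo the derived subgroup, and the group has class at most three with
centre of order `p`.
-/

set_option autoImplicit false
set_option linter.style.haveILetI false
set_option linter.unusedSectionVars false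

namespace CfsgLib.Fusion.OrderPFive

open Cfsg Cfsg.FusionSystem Subgroup CfsgLib.Fusion CfsgLib.MaxClassEss
open scoped commutatorElement

namespace CubeCase

variable {p : ℕ} [hp : Fact p.Prime]
variable {Ω : Type*} [Group Ω] {S : Subgroup Ω} [Finite S] {F : FusionSystem S}
  {E Z : Subgroup S} {l k e : S} (B : Base p E Z l k e)

include B

/-- The exponents of a torus element on a generator outside the normalizer. -/
theorem weights (h : Hyp F p) (hE : F.IsEssential p (E.map S.subtype)) {y : S}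
    (hy : y ∉ normalizer (E : Set S)) {a a' : ℕ} (haa : (a : ZMod p) * (a' : ZMod p) = 1)
    {θ : S → S} (hθ : MapS F E θ) (hθE : ∀ x ∈ E, θ x ∈ E) (hl : θ l = l ^ a) (hk : θ k = k)
    (he : θ e = e ^ a') :
    ∃ φ : S →* S, φ l = l ^ a ∧ φ k = k ∧
      ∃ μ σ : ℕ, ∃ n ∈ normalizer (E : Set S), ∃ z ∈ Z, φ y = y ^ μ * n ∧
        φ ⁅y, e⁆ = ⁅y, e⁆ ^ σ * z ∧ (σ : ZMod p) = (a : ZMod p) ^ 2 ∧
        (μ : ZMod p) = (a : ZMod p) ^ 3 := by
  obtain ⟨f, hf, hfl, hfk, hfe, hfD⟩ := theta_extends B h hE hy hθ hθE hl hk he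
  let φ : S →* S := MonoidHom.mk' f fun u v => map_mul hf (mem_top u) (mem_top v)
  have hφl : φ l = l ^ a := hfl
  have hφe : φ e = e ^ a' := hfe
  haveI := B.Zn
  set s := ⁅y, e⁆ with hs
  obtain ⟨μ, n, hn, hφy⟩ := B.smem hy (φ y)
  have hfs : φ s ∈ dsub Z e y := hfD s (B.sD hy)
  obtain ⟨σ, z, hz, hφs⟩ := B.dmem hy hfs
  refine ⟨φ, hφl, hfk, μ, σ, n, hn, z, hz, hφy, hφs, ?_⟩
  have h1 : (σ : ZMod p) = (μ : ZMod p) * a' := by
    have h2 := comm_pow_mod Z (x := y) (y := e) (a := n) (b := 1) (m := μ) (n := a')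
      (B.class_two y e) (B.L_le (B.NL n hn e B.eN))
      (by rw [commutatorElement_one_right]; exact one_mem Z)
    rw [mul_one, ← hφy, ← hφe, ← map_commutatorElement, ← hs, hφs, ← mul_assoc,
      mul_mem_cancel_right hz] at h2
    have h3 := cast_eq_of_mod (B.sp hy) (fun hh => B.s_notE hy (B.ZE hh)) h2
    rw [Nat.cast_mul] at h3
    exact h3.symm
  obtain ⟨m, hm, hse⟩ := B.exists_se hy
  rw [← hs] at hse
  have h4 : (σ : ZMod p) * a' = a := by
    have h2 := comm_pow_pow (x := s) (y := e) (a := z) (b := 1) (m := σ) (n := a')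
      (B.Lc (hse ▸ pow_mem (mem_zpowers l) m) s) (B.Lc (hse ▸ pow_mem (mem_zpowers l) m) e)
      (B.Zc z hz e B.eN).symm (Commute.one_right _)
    rw [mul_one, ← hφs, ← hφe, ← map_commutatorElement, hse, _root_.map_pow, hφl, ← pow_mul,
      ← pow_mul] at h2
    have h3 := cast_eq_of_pow_eq B.lp B.l_ne h2
    simp only [Nat.cast_mul] at h3
    exact (mul_left_cancel₀ (fun h0 => hm ((ZMod.natCast_eq_zero_iff _ _).1 h0))
      (h3.symm.trans (mul_comm _ _))).trans rfl
  constructor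
  · linear_combination (a : ZMod p) * h4 - (σ : ZMod p) * haa
  · linear_combination (-(a : ZMod p)) * h1 + (a : ZMod p) ^ 2 * h4 -
      ((μ : ZMod p) + (a : ZMod p) * σ) * haa

/-- Some element outside the normalizer commutes with its commutator with `e`. -/
theorem exists_good (h : Hyp F p) (hE : F.IsEssential p (E.map S.subtype))
    (htor : ∀ a a' : ℕ, ((a : ZMod p) * (a' : ZMod p)) = 1 → ∃ θ, MapS F E θ ∧
      (∀ x ∈ E, θ x ∈ E) ∧ θ l = l ^ a ∧ θ k = k ∧ θ e = e ^ a') :
    ∃ y, y ∉ normalizer (E : Set S) ∧ Commute y ⁅y, e⁆ := by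
  obtain ⟨y, hy⟩ : ∃ y, y ∉ normalizer (E : Set S) := by
    by_contra hcon
    push Not at hcon
    have h1 := B.cardN
    rw [(eq_top_iff' _).2 hcon, Subgroup.card_top, B.card] at h1
    have := Nat.pow_right_injective hp.out.two_le h1
    omega
  set s := ⁅y, e⁆ with hs
  have hq : ((p - 1 : ℕ) : ZMod p) = -1 := by
    rw [Nat.cast_sub hp.out.one_le, ZMod.natCast_self, Nat.cast_one, zero_sub]
  obtain ⟨θ, hθ, hθE, hl, hk, he⟩ :=
    htor (p - 1) (p - 1) (by rw [hq]; ring)
  obtain ⟨φ, hφl, hφk, μ, σ, n, hn, z, hz, hφy, hφs, hσ, hμ⟩ :=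
    weights B h hE hy (by rw [hq]; ring) hθ hθE hl hk he
  rw [← hs] at hφs
  haveI := B.Zn
  haveI := B.Ln
  -- the commutator of `y` and `s` is in `⟨l⟩`
  have hwZ : ⁅y, s⁆ ∈ Z := B.cenD hy (B.sD hy) y
  have hw : ⁅y, s⁆ ∈ zpowers l := by
    obtain ⟨j, u, hu, hju⟩ := B.eq_pow_mul hwZ
    have h2 := comm_pow_mod (zpowers l) (x := y) (y := s) (a := n) (b := z) (m := μ) (n := σ)
      (B.zL _ hwZ) (B.NL n hn s (B.s_mem hy)) (B.zL z hz _)
    rw [← hφy, ← hφs, ← map_commutatorElement, ← QuotientGroup.eq] at h2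
    have hπu : ∀ v ∈ zpowers l, (QuotientGroup.mk v : S ⧸ zpowers l) = 1 := fun v hv =>
      (QuotientGroup.eq_one_iff v).2 hv
    have hφu : φ u ∈ zpowers l := by
      obtain ⟨i, rfl⟩ := exists_pow_eq hu
      rw [_root_.map_pow, hφl]
      exact pow_mem (pow_mem (mem_zpowers l) _) i
    rw [hju, _root_.map_mul, _root_.map_pow, hφk] at h2
    simp only [QuotientGroup.mk_mul, QuotientGroup.mk_pow, hπu u hu, hπu _ hφu, mul_one,
      ← pow_mul] at h2
    rw [← QuotientGroup.mk_pow, ← QuotientGroup.mk_pow, QuotientGroup.eq] at h2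
    have h3 := cast_eq_of_mod (by rw [B.hhp]; exact one_mem _) B.h_notL h2
    rw [Nat.cast_mul, Nat.cast_mul, hσ, hμ, hq] at h3
    have h4 : ((2 : ℕ) : ZMod p) * j = 0 := by push_cast; linear_combination -h3
    have h5 : (j : ZMod p) = 0 := (mul_eq_zero.1 h4).resolve_left fun h0 => h.odd
      ((Nat.prime_dvd_prime_iff_eq hp.out Nat.prime_two).1 ((ZMod.natCast_eq_zero_iff _ _).1 h0))
    rw [hju]
    exact mul_mem (pow_mem_of_dvd (by rw [B.hhp]; exact one_mem _)
      ((ZMod.natCast_eq_zero_iff j p).1 h5)) hu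
  obtain ⟨w, hw⟩ := exists_pow_eq hw
  obtain ⟨m, hm, hse⟩ := B.exists_se hy
  rw [← hs] at hse
  obtain ⟨m', hm'⟩ := exists_mul_eq_one hm
  set q := w * m' with hq'
  have hC : ∀ g : S, Commute g ⁅s, e⁆ := fun g => by rw [hse]; exact (B.lcen g).pow_right m
  have h1 : ⁅s, e ^ q⁆ = l ^ w := by
    have h2 := comm_pow_pow (x := s) (y := e) (a := 1) (b := 1) (m := 1) (n := q)
      (hC s) (hC e) (Commute.one_left _) (Commute.one_right _)
    simp only [mul_one, pow_one, one_mul] at h2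
    rw [h2, hse, ← pow_mul]
    refine pow_congr B.lp ?_
    rw [hq']
    push_cast
    linear_combination (w : ZMod p) * hm'
  have hse' : ⁅y * e ^ q, e⁆ = s := by
    rw [commutatorElement_mul_left_eq_conj_mul,
      commutatorElement_eq_one_iff_commute.2 ((Commute.refl e).pow_left q), mul_one,
      mul_inv_cancel, one_mul]
  refine ⟨y * e ^ q, fun hh => hy ((mul_mem_cancel_right (pow_mem B.eN q)).1 hh), ?_⟩
  rw [hse', ← commutatorElement_eq_one_iff_commute, commutatorElement_mul_left_eq_conj_mul,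
    ← commutatorElement_inv, h1, ← hw, (B.Lc (inv_mem (pow_mem (mem_zpowers l) w)) y).eq,
    mul_inv_cancel_right, inv_mul_cancel]

end CubeCase

open CubeCase in
/-- The case of an elementary abelian essential subgroup of order `p ^ 3`. -/
theorem cube_structure {Ω : Type*} [Group Ω] {S : Subgroup Ω} [Finite S] {F : FusionSystem S}
    {p : ℕ} [hp : Fact p.Prime] (h : Hyp F p) {E : Subgroup S}
    (hE : F.IsEssential p (E.map S.subtype)) (hel : Cfsg.IsElementaryAbelian p (E.map S.subtype))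
    (hcard : Nat.card E = p ^ 3) :
    p = 3 ∧ HasFixedMod F ∧ Nat.card (Subgroup.center S) = p ∧
      (⊤ : Subgroup S).lowerCentralSeries 2 ≤ Subgroup.center S := by
  obtain ⟨Z, l, k, e, B, htor⟩ := exists_base h hE hel hcard
  obtain ⟨y, hy, hys⟩ := exists_good B h hE htor
  haveI := B.Zn
  haveI := B.Ln
  haveI := B.Dn hy
  set s := ⁅y, e⁆ with hs
  set L := zpowers l with hL
  have hC : ∀ {u : S}, u ∈ L → ∀ g : S, Commute g u := fun hu g => B.Lc hu g
  obtain ⟨j, hj⟩ := exists_pow_eq (B.zL k B.hZ y)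
  obtain ⟨m, hm, hse⟩ := B.exists_se hy
  rw [← hs] at hse
  -- `y` does not centralize `Z`
  have hjp : ¬ p ∣ j := fun hdj => by
    have hyk : Commute y k := commutatorElement_eq_one_iff_commute.1 (by
      rw [← hj]
      obtain ⟨r, rfl⟩ := hdj
      rw [pow_mul, B.lp, one_pow])
    have hyD : ∀ d ∈ dsub Z e y, Commute y d := fun d hd => by
      obtain ⟨r, z, hz, rfl⟩ := B.dmem hy hd
      obtain ⟨i, i', rfl⟩ := (B.Zmem z).1 hz
      exact (hys.pow_right r).mul_right (((B.lcen y).pow_right i).mul_right (hyk.pow_right i'))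
    set A := zpowers y ⊔ dsub Z e y with hA
    have hAc : ∀ u ∈ A, ∀ v ∈ A, Commute u v := fun u hu v hv => by
      obtain ⟨u₁, hu₁, u₂, hu₂, rfl⟩ := mem_sup_of_normal_right.1 hu
      obtain ⟨v₁, hv₁, v₂, hv₂, rfl⟩ := mem_sup_of_normal_right.1 hv
      obtain ⟨i, rfl⟩ := exists_pow_eq hu₁
      obtain ⟨i', rfl⟩ := exists_pow_eq hv₁
      exact ((((Commute.refl y).pow_pow i i')).mul_right ((hyD v₂ hv₂).pow_left i)).mul_left
        (((hyD u₂ hu₂).pow_left i').symm.mul_right (B.Dab hy hu₂ hv₂))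
    have hAcard : Nat.card A = p ^ 4 := card_eq_of_between (a := 3) h.pgroup
      (lt_of_le_of_ne le_sup_right fun heq =>
        hy (B.DN hy (heq.ge (mem_sup_left (mem_zpowers y)))))
      (lt_top_iff_ne_top.2 fun ht => B.y_ne hy (commutatorElement_eq_one_iff_commute.2
        (hAc y (ht.ge (mem_top y)) e (ht.ge (mem_top e)))))
      (B.cardD hy) (by rw [Subgroup.card_top, B.card])
    have hind : A.index = p := by
      have h1 := A.card_mul_index
      rw [hAcard, B.card, show p ^ 5 = p ^ 4 * p by ring] at h1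
      exact mul_left_cancel₀ (pow_ne_zero 4 hp.out.ne_zero) h1
    exact h.noAb A hind ⟨⟨fun u v => Subtype.ext (hAc u u.2 v v.2).eq⟩⟩
  have hj0 : (j : ZMod p) ≠ 0 := fun h0 => hjp ((ZMod.natCast_eq_zero_iff _ _).1 h0)
  -- the prime is three
  have hp3 : p = 3 := by
    obtain ⟨a', ha'⟩ := exists_half (p := p) h.odd
    obtain ⟨θ, hθ, hθE, hl, hk, he⟩ := htor 2 a' ha'
    obtain ⟨φ, hφl, hφk, μ, σ, n, hn, z, hz, hφy, -, -, hμ⟩ :=
      weights B h hE hy ha' hθ hθE hl hk he
    have hlc : ∀ g, Commute g ⁅y, k⁆ := fun g => hj ▸ (B.lcen g).pow_right j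
    have h2 := comm_pow_pow (x := y) (y := k) (a := n) (b := 1) (m := μ) (n := 1)
      (hlc y) (hlc k) (B.Zc k B.hZ n hn) (Commute.one_right _)
    rw [mul_one, pow_one, mul_one] at h2
    have h3 : φ ⁅y, k⁆ = ⁅y, k⁆ ^ μ := by rw [map_commutatorElement, hφy, hφk, h2]
    rw [← hj, _root_.map_pow, hφl, ← pow_mul, ← pow_mul] at h3
    have h4 := cast_eq_of_pow_eq B.lp B.l_ne h3
    rw [Nat.cast_mul, Nat.cast_mul, hμ, mul_comm] at h4
    have h5 := mul_left_cancel₀ hj0 h4
    have h6 : ((6 : ℕ) : ZMod p) = 0 := by push_cast at h5 ⊢; linear_combination -h5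
    have h7 : p ∣ 2 * 3 := (ZMod.natCast_eq_zero_iff _ _).1 h6
    exact ((Nat.Prime.dvd_mul hp.out).1 h7).elim
      (fun h8 => absurd ((Nat.prime_dvd_prime_iff_eq hp.out Nat.prime_two).1 h8) h.odd)
      fun h8 => (Nat.prime_dvd_prime_iff_eq hp.out Nat.prime_three).1 h8
  -- the derived subgroup
  have hsL : ∀ g, ⁅g, s⁆ ∈ L := fun g => by
    obtain ⟨i, n, hn, rfl⟩ := B.smem hy g
    rw [commutatorElement_mul_left_eq_conj_mul,
      commutatorElement_eq_one_iff_commute.2 (hys.pow_left i), mul_one]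
    exact B.Ln.conj_mem _ (B.NL n hn s (B.s_mem hy)) _
  set Λ := zpowers s ⊔ L with hΛ
  have hLcen : L ≤ cenMod L := fun u hu => mem_cenMod.2 fun g => by
    rw [commutatorElement_eq_one_iff_commute.2 (hC hu g)]; exact one_mem _
  have hΛcen : Λ ≤ cenMod L := sup_le (zpowers_le.2 (mem_cenMod.2 hsL)) hLcen
  haveI hΛn : Λ.Normal := ⟨fun x hx g => by
    rw [show g * x * g⁻¹ = ⁅g, x⁆ * x by rw [commutatorElement_def, inv_mul_cancel_right]]
    exact mul_mem (mem_sup_right (mem_cenMod.1 (hΛcen hx) g)) hx⟩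
  have hLC : L ≤ Λ := le_sup_right
  have hmemΛ : ∀ x ∈ Λ, ∃ r : ℕ, ∃ u ∈ L, x = s ^ r * u := fun x hx => by
    obtain ⟨v, hv, u, hu, rfl⟩ := mem_sup_of_normal_right.1 hx
    obtain ⟨r, rfl⟩ := exists_pow_eq hv
    exact ⟨r, u, hu, rfl⟩
  have hcomle : _root_.commutator S ≤ Λ := by
    set π := QuotientGroup.mk' Λ with hπ
    have hsπ : π s = 1 := (QuotientGroup.eq_one_iff s).2 (mem_sup_left (mem_zpowers s))
    have hlπ : π l = 1 := (QuotientGroup.eq_one_iff l).2 (hLC (mem_zpowers l))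
    have hye : Commute (π y) (π e) := commute_mk_of_mem (mem_sup_left (mem_zpowers s))
    have hyk : Commute (π y) (π k) := commute_mk_of_mem (hLC (B.zL k B.hZ y))
    have hek : Commute (π e) (π k) := commute_mk_of_mem (hLC (B.zL k B.hZ e))
    have hgen : ∀ g, ∃ a b c : ℕ, π g = π y ^ a * π e ^ b * π k ^ c := fun g => by
      obtain ⟨a, n, hn, rfl⟩ := B.smem hy g
      obtain ⟨b, d, hd, rfl⟩ := B.nmem hy hn
      obtain ⟨r, z, hz, rfl⟩ := B.dmem hy hd
      obtain ⟨i, c, rfl⟩ := (B.Zmem z).1 hz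
      refine ⟨a, b, c, ?_⟩
      rw [← hs]
      simp only [_root_.map_mul, _root_.map_pow, hsπ, hlπ, one_pow, one_mul, mul_assoc]
    rw [_root_.commutator_def, commutator_le]
    intro u _ v _
    obtain ⟨a, b, c, hu⟩ := hgen u
    obtain ⟨a', b', c', hv⟩ := hgen v
    rw [← QuotientGroup.eq_one_iff]
    show π _ = 1
    rw [map_commutatorElement, commutatorElement_eq_one_iff_commute, hu, hv]
    have c1 : Commute (π y ^ a) (π y ^ a' * π e ^ b' * π k ^ c') :=
      (((Commute.refl _).pow_pow a a').mul_right (hye.pow_pow a b')).mul_right (hyk.pow_pow a c')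
    have c2 : Commute (π e ^ b) (π y ^ a' * π e ^ b' * π k ^ c') :=
      ((hye.symm.pow_pow b a').mul_right ((Commute.refl _).pow_pow b b')).mul_right
        (hek.pow_pow b c')
    have c3 : Commute (π k ^ c) (π y ^ a' * π e ^ b' * π k ^ c') :=
      ((hyk.symm.pow_pow c a').mul_right (hek.symm.pow_pow c b')).mul_right
        ((Commute.refl _).pow_pow c c')
    exact (c1.mul_left c2).mul_left c3
  have hscom : s ∈ _root_.commutator S := by
    rw [_root_.commutator_def]; exact commutator_mem_commutator (mem_top y) (mem_top e)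
  have hlcom : l ∈ _root_.commutator S := by
    obtain ⟨j', hj'⟩ := exists_mul_eq_one hjp
    rw [show l = ⁅y, k⁆ ^ j' by
      rw [← hj, ← pow_mul, pow_congr B.lp (a := j * j') (b := 1)
        (by rw [Nat.cast_mul, hj', Nat.cast_one]), pow_one], _root_.commutator_def]
    exact pow_mem (commutator_mem_commutator (mem_top y) (mem_top k)) j'
  have hcom : _root_.commutator S = Λ :=
    le_antisymm hcomle (sup_le (zpowers_le.2 hscom) (zpowers_le.2 hlcom))
  -- the centre
  have hcenter : Subgroup.center S = L := by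
    refine le_antisymm (fun x hx => ?_) (zpowers_le.2 (Subgroup.mem_center_iff.2 fun g =>
      (B.lcen g).eq))
    have hxc : ∀ g : S, Commute g x := fun g => Subgroup.mem_center_iff.1 hx g
    have hxE : x ∈ E := B.cent (mem_centralizer_iff.2 fun u _ => (hxc u).eq)
    obtain ⟨r, u, hu, rfl⟩ := B.eq_pow_mul (B.mem_Z_of_commute hy hxE (hxc _))
    have h1 : ⁅y ^ 1 * 1, k ^ r * u⁆ = ⁅y, k⁆ ^ (1 * r) :=
      comm_pow_pow (hj ▸ (B.lcen y).pow_right j) (hj ▸ (B.lcen k).pow_right j)
        (Commute.one_left _) (hC hu _)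
    rw [pow_one, mul_one, one_mul, commutatorElement_eq_one_iff_commute.2 (hxc y), ← hj,
      ← pow_mul, ← pow_zero l] at h1
    have h2 := cast_eq_of_pow_eq B.lp B.l_ne h1
    rw [Nat.cast_zero, Nat.cast_mul] at h2
    exact mul_mem (pow_mem_of_dvd (by rw [B.hhp]; exact one_mem _)
      ((ZMod.natCast_eq_zero_iff r p).1 ((mul_eq_zero.1 h2.symm).resolve_left hj0))) hu
  refine ⟨hp3, ⟨k, ?_, fun f hf => ?_⟩, by rw [hcenter, B.cardL], ?_⟩
  · intro hk
    rw [hcom] at hk
    obtain ⟨r, u, hu, hru⟩ := hmemΛ k hk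
    refine B.h_notL ?_
    rw [hru]
    refine mul_mem ?_ hu
    have hsr : s ^ r ∈ E := by
      rw [eq_mul_inv_of_mul_eq hru.symm]
      exact mul_mem (B.ZE B.hZ) (inv_mem (B.ZE (B.L_le hu)))
    exact pow_mem_of_dvd (by rw [B.Nexp s (B.s_mem hy)]; exact one_mem _)
      (B.dvd_of_s_pow_mem hy hsr)
  · let φ : S →* S := MonoidHom.mk' f fun u v => map_mul hf (mem_top u) (mem_top v)
    have hφinj : Function.Injective φ := fun u v huv => map_inj hf (mem_top u) (mem_top v) huv
    have hφsurj : Function.Surjective φ := (Finite.injective_iff_bijective.1 hφinj).2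
    show k⁻¹ * φ k ∈ _root_.commutator S
    have hφΛ : ∀ x ∈ Λ, φ x ∈ Λ := fun x hx => by
      rw [← hcom] at hx ⊢
      have h1 : (_root_.commutator S).map φ ≤ _root_.commutator S := by
        rw [_root_.commutator_def, Subgroup.map_commutator]
        exact commutator_mono le_top le_top
      exact h1 (mem_map_of_mem φ hx)
    have hφL : ∀ x ∈ L, φ x ∈ L := fun x hx => by
      rw [← hcenter] at hx ⊢
      refine Subgroup.mem_center_iff.2 fun g => ?_
      obtain ⟨g', rfl⟩ := hφsurj g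
      rw [← _root_.map_mul, ← _root_.map_mul, Subgroup.mem_center_iff.1 hx g']
    obtain ⟨lam, hlam⟩ := exists_pow_eq (hφL l (mem_zpowers l))
    have hlam0 : (lam : ZMod p) ≠ 0 := fun h0 => B.l_ne (hφinj (by
      rw [_root_.map_one, ← hlam, pow_congr B.lp (a := lam) (b := 0) (by rw [h0, Nat.cast_zero]),
        pow_zero]))
    obtain ⟨σ, u, hu, hφs⟩ := hmemΛ _ (hφΛ s (mem_sup_left (mem_zpowers s)))
    -- the image of `y`
    obtain ⟨η, n, hn, hφy⟩ := B.smem hy (φ y)
    obtain ⟨q, d, hd, rfl⟩ := B.nmem hy hn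
    obtain ⟨t, ht, hφt⟩ : ∃ t ∈ Λ, φ t = s :=
      map_surj_of_le (R := Λ) hf le_top hφΛ (mem_sup_left (mem_zpowers s))
    have hyΛ : ∀ x ∈ Λ, Commute y x := fun x hx => by
      obtain ⟨r, v, hv, rfl⟩ := hmemΛ x hx
      exact (hys.pow_right r).mul_right (hC hv y)
    have hys' : Commute (φ y) s := hφt ▸ (hyΛ t ht).map φ
    have hds : ∀ {x : S}, x ∈ dsub Z e y → Commute x s := fun hx => B.Dab hy hx (B.sD hy)
    have hq : p ∣ q := by
      have h1 : Commute ((y ^ η)⁻¹ * φ y * d⁻¹) s :=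
        (((hys.pow_left η).inv_left).mul_left hys').mul_left (hds hd).inv_left
      rw [hφy, inv_mul_cancel_left, mul_inv_cancel_right] at h1
      exact dvd_of_pow_mem (K := Z) (by rw [B.ep]; exact one_mem Z) B.e_notZ
        (B.mem_Z_of_commute hy (pow_mem B.eE q) h1.symm)
    rw [show e ^ q = 1 from mem_bot.1 (pow_mem_of_dvd (K := ⊥) (mem_bot.2 B.ep) hq), one_mul]
      at hφy
    -- the image of `e`
    obtain ⟨n', hn', t', hφe⟩ := B.smem' hy (φ e)
    obtain ⟨ε, d', hd', rfl⟩ := B.nmem hy hn'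
    rw [mul_assoc] at hφe
    have hσ : (σ : ZMod p) = (η : ZMod p) * ε := by
      have hb : ⁅y ^ η * d, d' * y ^ t'⁆ ∈ Z := by
        rw [commutatorElement_mul_right_eq_mul_conj, mul_assoc, mul_assoc]
        refine mul_mem (B.cenD hy hd' _) ?_
        rw [← mul_assoc]
        refine B.Zn.conj_mem _ ?_ d'
        rw [commutatorElement_mul_left_eq_conj_mul,
          commutatorElement_eq_one_iff_commute.2 ((Commute.refl y).pow_pow η t'), mul_one]
        exact B.Zn.conj_mem _ (comm_mem_swap (B.cenD hy hd _)) _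
      have h2 := comm_pow_mod Z (x := y) (y := e) (a := d) (b := d' * y ^ t') (m := η) (n := ε)
        (B.class_two y e) (comm_mem_swap (B.cenD hy hd e)) hb
      rw [← hφy, ← hφe, ← map_commutatorElement, ← hs, hφs, ← mul_assoc,
        mul_mem_cancel_right (B.L_le hu)] at h2
      have h3 := cast_eq_of_mod (B.sp hy) (fun hh => B.s_notE hy (B.ZE hh)) h2
      rw [Nat.cast_mul] at h3
      exact h3.symm
    have hlamσ : (lam : ZMod p) = (σ : ZMod p) * ε := by
      have hC' : ∀ g : S, Commute g ⁅s, e⁆ := fun g => by rw [hse]; exact (B.lcen g).pow_right m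
      have hb : Commute (s ^ σ * u) (d' * y ^ t') :=
        ((((hds hd').symm).pow_left σ).mul_right ((hys.symm).pow_pow σ t')).mul_left
          (hC hu _).symm
      have h2 := comm_pow_pow (x := s) (y := e) (a := u) (b := d' * y ^ t') (m := σ) (n := ε)
        (hC' s) (hC' e) (hC hu e).symm hb
      rw [← hφs, ← hφe, ← map_commutatorElement, hse, _root_.map_pow, ← hlam, ← pow_mul,
        ← pow_mul] at h2
      have h3 := cast_eq_of_pow_eq B.lp B.l_ne h2
      rw [Nat.cast_mul, Nat.cast_mul, Nat.cast_mul, mul_comm] at h3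
      exact mul_left_cancel₀ (fun h0 => hm ((ZMod.natCast_eq_zero_iff _ _).1 h0)) h3
    have hε : (ε : ZMod p) ≠ 0 := fun h0 => hlam0 (by rw [hlamσ, h0, mul_zero])
    have hε2 : (ε : ZMod p) ^ 2 = 1 := by
      have h1 := ZMod.pow_card_sub_one_eq_one hε
      rwa [show p - 1 = 2 by omega] at h1
    have hlamη : (lam : ZMod p) = η := by
      rw [hlamσ, hσ, mul_assoc, ← sq, hε2, mul_one]
    -- the image of `k`
    have hk1 : ∀ g, ⁅g, φ k⁆ ∈ L := fun g => by
      obtain ⟨g', rfl⟩ := hφsurj g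
      rw [← map_commutatorElement]
      exact hφL _ (B.zL k B.hZ g')
    obtain ⟨i, w, hw, hφk⟩ := B.smem hy (φ k)
    have hi : p ∣ i := by
      have h2 := comm_pow_mod Z (x := y) (y := e) (a := w) (b := 1) (m := i) (n := 1)
        (B.class_two y e) (B.L_le (B.NL w hw e B.eN))
        (by rw [commutatorElement_one_right]; exact one_mem Z)
      rw [mul_one, pow_one, mul_one, ← hφk, ← hs,
        mul_mem_cancel_right (B.L_le (comm_mem_swap (hk1 e)))] at h2
      exact dvd_of_pow_mem (B.sp hy) (fun hh => B.s_notE hy (B.ZE hh)) ((inv_mem_iff).1 h2)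
    have hkN : φ k ∈ normalizer (E : Set S) := by
      rw [hφk]
      exact mul_mem (pow_mem_of_dvd (by
        haveI := B.Nn
        have h1 := (normalizer (E : Set S)).pow_index_mem y
        rwa [B.index_N] at h1) hi) hw
    obtain ⟨q', d'', hd'', hφk'⟩ := B.nmem hy hkN
    have hq' : p ∣ q' := by
      have h2 := comm_pow_mod Z (x := y) (y := e) (a := 1) (b := d'') (m := 1) (n := q')
        (B.class_two y e) (by rw [commutatorElement_one_left]; exact one_mem Z)
        (B.cenD hy hd'' _)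
      rw [pow_one, mul_one, one_mul, ← hφk', ← hs,
        mul_mem_cancel_right (B.L_le (hk1 y))] at h2
      exact dvd_of_pow_mem (B.sp hy) (fun hh => B.s_notE hy (B.ZE hh)) ((inv_mem_iff).1 h2)
    rw [show e ^ q' = 1 from mem_bot.1 (pow_mem_of_dvd (K := ⊥) (mem_bot.2 B.ep) hq'), one_mul]
      at hφk'
    obtain ⟨r, z, hz, rfl⟩ := B.dmem hy hd''
    obtain ⟨γ, v, hv, rfl⟩ := B.eq_pow_mul hz
    have hsk : Commute (s ^ r) (k ^ γ) :=
      (B.Dab hy (B.sD hy) (B.ZD hy B.hZ)).pow_pow r γ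
    rw [← mul_assoc, hsk.eq, mul_assoc] at hφk'
    have hγ : (γ : ZMod p) = 1 := by
      have hlc : ∀ g, Commute g ⁅y, k⁆ := fun g => hj ▸ (B.lcen g).pow_right j
      have hb : Commute (y ^ η * d) (s ^ r * v) :=
        ((((hys.pow_left η).mul_left (hds hd)).pow_right r)).mul_right (hC hv _)
      have h2 := comm_pow_pow (x := y) (y := k) (a := d) (b := s ^ r * v) (m := η) (n := γ)
        (hlc y) (hlc k) (B.Dab hy hd (B.ZD hy B.hZ)) hb
      rw [← hφy, ← hφk', ← map_commutatorElement, ← hj, _root_.map_pow, ← hlam, ← pow_mul,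
        ← pow_mul] at h2
      have h3 := cast_eq_of_pow_eq B.lp B.l_ne h2
      rw [Nat.cast_mul, Nat.cast_mul, Nat.cast_mul, hlamη, mul_comm] at h3
      have h4 := mul_left_cancel₀ hj0 h3
      have hη0 : (η : ZMod p) ≠ 0 := hlamη ▸ hlam0
      exact (mul_left_cancel₀ hη0 (h4.symm.trans (mul_one _).symm))
    rw [hφk', pow_congr B.hhp (a := γ) (b := 1) (by rw [hγ, Nat.cast_one]), pow_one,
      inv_mul_cancel_left, hcom]
    exact mul_mem (pow_mem (mem_sup_left (mem_zpowers s)) r) (hLC hv)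
  · show ⁅(⊤ : Subgroup S).lowerCentralSeries 1, ⊤⁆ ≤ _
    rw [top_lowerCentralSeries_one, hcom, hcenter, commutator_le]
    exact fun x hx g _ => comm_mem_swap (mem_cenMod.1 (hΛcen hx) g)

end CfsgLib.Fusion.OrderPFive
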