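import Cfsg.Agent.Lib.Fusion.OrderPFive.Kit
import Cfsg.Agent.Lib.Solvable.Nilpotent
import Cfsg.Agent.Lib.Transfer.MaxClass

/-!
Commutator relations around an elementary abelian essential subgroup of order `p ^ 3` in a group of
order `p ^ 5`.
-/

set_option autoImplicit false
set_option linter.style.haveILetI false
set_option linter.unusedSectionVars false

namespace CfsgLib.Fusion.OrderPFive.CubeCase

open Subgroup
open scoped commutatorElement

variable {G : Type*} [Group G] {p : ℕ}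

/-! ### Powers and commutators -/

theorem comm_pow_pow {x y a b : G} {m n : ℕ} (hx : Commute x ⁅x, y⁆) (hy : Commute y ⁅x, y⁆)
    (ha : Commute a y) (hb : Commute (x ^ m * a) b) :
    ⁅x ^ m * a, y ^ n * b⁆ = ⁅x, y⁆ ^ (m * n) := by
  set C := ⁅x, y⁆ with hC
  have h1 : ∀ m : ℕ, x ^ m * y * (x ^ m)⁻¹ = C ^ m * y := by
    intro m
    induction m with
    | zero => simp
    | succ m ih =>
      calc x ^ (m + 1) * y * (x ^ (m + 1))⁻¹
          = x * (x ^ m * y * (x ^ m)⁻¹) * x⁻¹ := by rw [pow_succ']; group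
        _ = x * C ^ m * (y * x⁻¹) := by rw [ih]; group
        _ = C ^ m * x * (y * x⁻¹) := by rw [(hx.pow_right m).eq]
        _ = C ^ (m + 1) * y := by
          rw [pow_succ, hC, commutatorElement_def]; group
  have h2 : x ^ m * y ^ n * (x ^ m)⁻¹ = C ^ (m * n) * y ^ n := by
    rw [← conj_pow, h1, ((hy.pow_right m).symm).mul_pow, ← pow_mul]
  calc ⁅x ^ m * a, y ^ n * b⁆
      = x ^ m * a * y ^ n * (b * (x ^ m * a)⁻¹) * b⁻¹ * (y ^ n)⁻¹ := by
        rw [commutatorElement_def]; group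
    _ = x ^ m * a * y ^ n * ((x ^ m * a)⁻¹ * b) * b⁻¹ * (y ^ n)⁻¹ := by
        rw [(hb.symm.inv_right).eq]
    _ = x ^ m * (a * y ^ n) * a⁻¹ * (x ^ m)⁻¹ * (y ^ n)⁻¹ := by group
    _ = x ^ m * y ^ n * (x ^ m)⁻¹ * (y ^ n)⁻¹ := by rw [(ha.pow_right n).eq]; group
    _ = C ^ (m * n) := by rw [h2, mul_inv_cancel_right]

theorem mul_pow_of_central {x y : G} (hc : ∀ g : G, ⁅y, x⁆ = g → Commute x g ∧ Commute y g)
    (n : ℕ) : (x * y) ^ n = x ^ n * y ^ n * ⁅y, x⁆ ^ n.choose 2 := by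
  obtain ⟨hx, hy⟩ := hc _ rfl
  induction n with
  | zero => simp
  | succ n ih =>
    set C := ⁅y, x⁆ with hC
    have h1 : y ^ n * x = C ^ n * x * y ^ n := by
      have h2 : ∀ m : ℕ, y ^ m * x * (y ^ m)⁻¹ = C ^ m * x := by
        intro m
        induction m with
        | zero => simp
        | succ m ih' =>
          calc y ^ (m + 1) * x * (y ^ (m + 1))⁻¹
              = y * (y ^ m * x * (y ^ m)⁻¹) * y⁻¹ := by rw [pow_succ']; group
            _ = y * C ^ m * (x * y⁻¹) := by rw [ih']; group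
            _ = C ^ m * y * (x * y⁻¹) := by rw [(hy.pow_right m).eq]
            _ = C ^ (m + 1) * x := by rw [pow_succ, hC, commutatorElement_def]; group
      exact eq_mul_of_mul_inv_eq (h2 n)
    have hx2 := hx.pow_right (n.choose 2)
    have hy2 := hy.pow_right (n.choose 2)
    calc (x * y) ^ (n + 1) = x ^ n * y ^ n * C ^ n.choose 2 * (x * y) := by rw [pow_succ, ih]
      _ = x ^ n * (y ^ n * x) * y * C ^ n.choose 2 := by
        rw [mul_assoc _ (C ^ _), ← (hx2.mul_left hy2).eq]; group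
      _ = x ^ n * (C ^ n * x) * (y ^ n * y) * C ^ n.choose 2 := by rw [h1]; group
      _ = x ^ n * x * (y ^ n * y) * C ^ n * C ^ n.choose 2 := by
        rw [mul_assoc _ (C ^ n) x |>.symm, mul_assoc (x ^ n) (C ^ n) x, ← (hx.pow_right n).eq,
          mul_assoc (x ^ n * x) (y ^ n * y) (C ^ n),
          (((hy.pow_right n).pow_left n).mul_left (hy.pow_right n)).eq]
        group
      _ = _ := by
        rw [← pow_succ, ← pow_succ, mul_assoc _ (C ^ n), ← pow_add,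
          Nat.choose_succ_succ' n 1, Nat.choose_one_right]

theorem commute_mk_of_mem {K : Subgroup G} [K.Normal] {a b : G} (h : ⁅a, b⁆ ∈ K) :
    Commute (QuotientGroup.mk' K a) (QuotientGroup.mk' K b) := by
  rw [← commutatorElement_eq_one_iff_commute, ← map_commutatorElement, QuotientGroup.mk'_apply,
    QuotientGroup.eq_one_iff]
  exact h

theorem comm_pow_mod (K : Subgroup G) [K.Normal] {x y a b : G} {m n : ℕ}
    (hx : ∀ g : G, ⁅g, ⁅x, y⁆⁆ ∈ K) (ha : ⁅a, y⁆ ∈ K) (hb : ⁅x ^ m * a, b⁆ ∈ K) :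
    (⁅x, y⁆ ^ (m * n))⁻¹ * ⁅x ^ m * a, y ^ n * b⁆ ∈ K := by
  rw [← QuotientGroup.eq]
  show QuotientGroup.mk' K _ = QuotientGroup.mk' K _
  have h1 := commute_mk_of_mem (hx x)
  have h2 := commute_mk_of_mem (hx y)
  have h3 := commute_mk_of_mem ha
  have h4 := commute_mk_of_mem hb
  simp only [map_commutatorElement, map_mul, map_pow] at h1 h2 h3 h4 ⊢
  exact (comm_pow_pow h1 h2 h3 h4).symm

/-- Elements central modulo `K`. -/
def cenMod (K : Subgroup G) [K.Normal] : Subgroup G :=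
  (center (G ⧸ K)).comap (QuotientGroup.mk' K)

theorem mem_cenMod {K : Subgroup G} [K.Normal] {x : G} :
    x ∈ cenMod K ↔ ∀ a : G, ⁅a, x⁆ ∈ K := by
  rw [cenMod, mem_comap, Subgroup.mem_center_iff]
  refine ⟨fun h a => ?_, fun h A => ?_⟩
  · rw [← QuotientGroup.eq_one_iff]
    show QuotientGroup.mk' K _ = 1
    rw [map_commutatorElement, commutatorElement_eq_one_iff_commute]
    exact h _
  · obtain ⟨a, rfl⟩ := QuotientGroup.mk'_surjective K A
    exact (commute_mk_of_mem (h a)).eq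

theorem comm_mem_swap {K : Subgroup G} {a b : G} (h : ⁅a, b⁆ ∈ K) : ⁅b, a⁆ ∈ K := by
  rw [← commutatorElement_inv]; exact K.inv_mem h

theorem comm_mem_sup {L A : Subgroup G} {a c : G}
    (hc : ∀ x ∈ L, ∀ m ∈ A ⊔ zpowers c, Commute m x) (hA : ∀ x ∈ A, ⁅a, x⁆ ∈ L)
    (hB : ⁅a, c⁆ ∈ L) {x : G} (hx : x ∈ A ⊔ zpowers c) : ⁅a, x⁆ ∈ L := by
  let T : Subgroup G :=
    { carrier := {x | x ∈ A ⊔ zpowers c ∧ ⁅a, x⁆ ∈ L}
      one_mem' := ⟨one_mem _, by rw [commutatorElement_one_right]; exact one_mem _⟩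
      mul_mem' := by
        rintro u v ⟨hu, hua⟩ ⟨hv, hva⟩
        refine ⟨mul_mem hu hv, ?_⟩
        rw [commutatorElement_mul_right_eq_mul_conj, mul_assoc _ u, (hc _ hva u hu).eq,
          mul_assoc, mul_inv_cancel_right]
        exact mul_mem hua hva
      inv_mem' := by
        rintro u ⟨hu, hua⟩
        refine ⟨inv_mem hu, ?_⟩
        rw [commutatorElement_inv_right, (hc _ (comm_mem_swap hua) _ (inv_mem hu)).eq,
          inv_mul_cancel_right]
        exact comm_mem_swap hua }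
  have h : A ⊔ zpowers c ≤ T := sup_le (fun u hu => ⟨mem_sup_left hu, hA u hu⟩)
    (zpowers_le.2 ⟨mem_sup_right (mem_zpowers c), hB⟩)
  exact (h hx).2

section Prime

variable [hp : Fact p.Prime]

theorem pow_congr {x : G} (hx : x ^ p = 1) {a b : ℕ} (h : (a : ZMod p) = b) : x ^ a = x ^ b := by
  rw [ZMod.natCast_eq_natCast_iff'] at h
  rw [pow_eq_pow_mod a hx, h, ← pow_eq_pow_mod b hx]

theorem cast_eq_of_pow_eq {x : G} (hx : x ^ p = 1) (h1 : x ≠ 1) {a b : ℕ} (h : x ^ a = x ^ b) :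
    (a : ZMod p) = b := by
  have h2 := pow_eq_pow_iff_modEq.1 h
  rw [orderOf_eq_prime hx h1] at h2
  exact (ZMod.natCast_eq_natCast_iff _ _ _).2 h2

theorem exists_mul_eq_one {n : ℕ} (h : ¬ p ∣ n) : ∃ m : ℕ, (n : ZMod p) * m = 1 := by
  refine ⟨(n : ZMod p)⁻¹.val, ?_⟩
  rw [ZMod.natCast_zmod_val]
  exact mul_inv_cancel₀ fun h0 => h ((ZMod.natCast_eq_zero_iff _ _).1 h0)

theorem dvd_of_pow_mem {K : Subgroup G} {x : G} (hxp : x ^ p ∈ K) (hx : x ∉ K) {n : ℕ}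
    (h : x ^ n ∈ K) : p ∣ n := by
  by_contra hn
  refine hx ?_
  have hg : Nat.gcd n p = 1 := ((Nat.Prime.coprime_iff_not_dvd hp.out).2 hn).symm
  have h1 := Nat.gcd_eq_gcd_ab n p
  rw [hg] at h1
  have h2 : x = (x ^ n) ^ Nat.gcdA n p * (x ^ p) ^ Nat.gcdB n p := by
    rw [← zpow_natCast x n, ← zpow_natCast x p, ← zpow_mul, ← zpow_mul, ← zpow_add, ← h1,
      Nat.cast_one, zpow_one]
  rw [h2]
  exact mul_mem (zpow_mem h _) (zpow_mem hxp _)

theorem pow_mem_of_dvd {K : Subgroup G} {x : G} (hxp : x ^ p ∈ K) {n : ℕ} (h : p ∣ n) :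
    x ^ n ∈ K := by
  obtain ⟨m, rfl⟩ := h
  rw [pow_mul]
  exact K.pow_mem hxp m

/-- Exponents of congruent powers modulo `K` agree modulo `p`. -/
theorem cast_eq_of_mod {K : Subgroup G} {x : G} (hxp : x ^ p ∈ K) (hx : x ∉ K) {a b : ℕ}
    (h : (x ^ a)⁻¹ * x ^ b ∈ K) : (a : ZMod p) = b := by
  rcases le_total a b with hab | hab
  · obtain ⟨d, rfl⟩ := Nat.exists_eq_add_of_le hab
    rw [pow_add, inv_mul_cancel_left] at h
    rw [Nat.cast_add, (ZMod.natCast_eq_zero_iff d p).2 (dvd_of_pow_mem hxp hx h), add_zero]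
  · obtain ⟨d, rfl⟩ := Nat.exists_eq_add_of_le hab
    have h' := K.inv_mem h
    rw [mul_inv_rev, inv_inv, pow_add, inv_mul_cancel_left] at h'
    rw [Nat.cast_add, (ZMod.natCast_eq_zero_iff d p).2 (dvd_of_pow_mem hxp hx h'), add_zero]

theorem exists_pow_eq [Finite G] {x z : G} (h : z ∈ zpowers x) : ∃ n : ℕ, x ^ n = z :=
  (Submonoid.mem_powers_iff z x).1 (mem_powers_iff_mem_zpowers.2 h)

theorem card_lt_of_lt [Finite G] (hG : IsPGroup p G) {K M : Subgroup G} (h : K < M) {a : ℕ}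
    (hK : Nat.card K = p ^ a) : p ^ (a + 1) ≤ Nat.card M := by
  obtain ⟨k, hk⟩ := (hG.to_subgroup M).exists_card_eq
  have hlt : Nat.card K < Nat.card M := lt_of_le_of_ne (Subgroup.card_le_of_le h.le) fun e =>
    h.ne (eq_of_le_of_card_ge h.le e.ge)
  rw [hK, hk, Nat.pow_lt_pow_iff_right hp.out.one_lt] at hlt
  rw [hk]
  exact Nat.pow_le_pow_right hp.out.pos hlt

theorem card_eq_of_between [Finite G] (hG : IsPGroup p G) {K M T : Subgroup G} (h1 : K < M)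
    (h2 : M < T) {a : ℕ} (hK : Nat.card K = p ^ a) (hT : Nat.card T = p ^ (a + 2)) :
    Nat.card M = p ^ (a + 1) := by
  refine le_antisymm ?_ (card_lt_of_lt hG h1 hK)
  obtain ⟨k, hk⟩ := (hG.to_subgroup M).exists_card_eq
  have h3 := card_lt_of_lt hG h2 hk
  rw [hT, Nat.pow_le_pow_iff_right hp.out.one_lt] at h3
  rw [hk]
  exact Nat.pow_le_pow_right hp.out.pos (by omega)

theorem eq_of_lt [Finite G] (hG : IsPGroup p G) {K M T : Subgroup G} (h1 : K < M) (h2 : M ≤ T)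
    {a : ℕ} (hK : Nat.card K = p ^ a) (hT : Nat.card T = p ^ (a + 1)) : M = T :=
  eq_of_le_of_card_ge h2 (hT ▸ card_lt_of_lt hG h1 hK)

end Prime

/-- The relations around an elementary abelian `E` of order `p ^ 3` with normalizer of order
`p ^ 4` having centre `Z`. -/
structure Base (p : ℕ) {G : Type*} [Group G] (E Z : Subgroup G) (l h e : G) : Prop where
  pG : IsPGroup p G
  card : Nat.card G = p ^ 5
  cardE : Nat.card E = p ^ 3
  ab : ∀ x ∈ E, ∀ y ∈ E, x * y = y * x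
  exp : ∀ x ∈ E, x ^ p = 1
  cent : centralizer (E : Set G) ≤ E
  cardN : Nat.card (normalizer (E : Set G)) = p ^ 4
  cardZ : Nat.card Z = p ^ 2
  ZE : Z ≤ E
  Zn : Z.Normal
  Zc : ∀ x ∈ Z, ∀ n ∈ normalizer (E : Set G), Commute n x
  Zmem : ∀ x, x ∈ Z ↔ ∃ i j : ℕ, x = l ^ i * h ^ j
  eE : e ∈ E
  Nexp : ∀ x ∈ normalizer (E : Set G), x ^ p = 1
  span : ∀ x ∈ E, ∃ i j k : ℕ, x = l ^ i * h ^ j * e ^ k
  indep : ∀ i j k : ℕ, l ^ i * h ^ j * e ^ k = 1 → p ∣ i ∧ p ∣ j ∧ p ∣ k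
  lcen : ∀ a : G, Commute a l
  zL : ∀ x ∈ Z, ∀ a : G, ⁅a, x⁆ ∈ zpowers l
  NL : ∀ a ∈ normalizer (E : Set G), ∀ b ∈ normalizer (E : Set G), ⁅a, b⁆ ∈ zpowers l

/-- The subgroup `⟨[y, e]⟩ Z`. -/
def dsub (Z : Subgroup G) (e y : G) : Subgroup G := zpowers ⁅y, e⁆ ⊔ Z

namespace Base

variable [Finite G] [hp : Fact p.Prime] {E Z : Subgroup G} {l h e : G}
  (B : Base p E Z l h e)
include B

theorem lZ : l ∈ Z := (B.Zmem l).2 ⟨1, 0, by simp⟩

theorem hZ : h ∈ Z := (B.Zmem h).2 ⟨0, 1, by simp⟩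

theorem lp : l ^ p = 1 := B.exp l (B.ZE B.lZ)

theorem hhp : h ^ p = 1 := B.exp h (B.ZE B.hZ)

theorem ep : e ^ p = 1 := B.exp e B.eE

theorem l_ne : l ≠ 1 := fun h1 =>
  hp.out.one_lt.ne' (Nat.dvd_one.1 (B.indep 1 0 0 (by simp [h1])).1)

theorem Ln : (zpowers l).Normal := ⟨fun x hx a => by
  obtain ⟨i, rfl⟩ := exists_pow_eq hx
  rw [((B.lcen a).pow_right i).eq, mul_inv_cancel_right]
  exact pow_mem (mem_zpowers l) i⟩

theorem L_le : zpowers l ≤ Z := zpowers_le.2 B.lZ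

theorem cardL : Nat.card (zpowers l) = p := by
  rw [Nat.card_zpowers, orderOf_eq_prime B.lp B.l_ne]

theorem Lc {x : G} (hx : x ∈ zpowers l) (a : G) : Commute a x := by
  obtain ⟨i, rfl⟩ := exists_pow_eq hx
  exact (B.lcen a).pow_right i

theorem h_notL : h ∉ zpowers l := fun hh => by
  obtain ⟨i, hi⟩ := exists_pow_eq hh
  have h1 := B.indep i (p - 1) 0 (by
    rw [hi, pow_zero, mul_one, ← pow_succ', Nat.sub_add_cancel hp.out.one_le, B.hhp])
  have := hp.out.two_le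
  have := Nat.le_of_dvd (by omega) h1.2.1
  omega

theorem eq_pow_mul {x : G} (hx : x ∈ Z) : ∃ j : ℕ, ∃ u ∈ zpowers l, x = h ^ j * u := by
  obtain ⟨i, j, rfl⟩ := (B.Zmem x).1 hx
  exact ⟨j, l ^ i, pow_mem (mem_zpowers l) i, ((B.lcen _).pow_right i).eq.symm⟩

theorem e_notZ : e ∉ Z := fun he => by
  obtain ⟨i, j, hij⟩ := (B.Zmem e).1 he
  have h1 := B.indep i j (p - 1) (by
    rw [← hij, ← pow_succ', Nat.sub_add_cancel hp.out.one_le, B.ep])
  have := hp.out.two_le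
  have := Nat.le_of_dvd (by omega) h1.2.2
  omega

theorem eq_mul_pow {x : G} (hx : x ∈ E) : ∃ z ∈ Z, ∃ k : ℕ, x = z * e ^ k := by
  obtain ⟨i, j, k, rfl⟩ := B.span x hx
  exact ⟨_, (B.Zmem _).2 ⟨i, j, rfl⟩, k, rfl⟩

theorem eN : e ∈ normalizer (E : Set G) := le_normalizer B.eE

theorem ZN : Z ≤ normalizer (E : Set G) := B.ZE.trans le_normalizer

theorem index_N : (normalizer (E : Set G)).index = p := by
  have h1 := (normalizer (E : Set G)).card_mul_index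
  rw [B.cardN, B.card, show p ^ 5 = p ^ 4 * p by ring] at h1
  exact mul_left_cancel₀ (pow_ne_zero 4 hp.out.ne_zero) h1

theorem Nn : (normalizer (E : Set G)).Normal := normal_of_index_eq_minFac_card (by
  rw [B.index_N, B.card, Nat.Prime.pow_minFac hp.out (by norm_num)])

theorem comm_L_of_Z {z : G} (hz : z ∈ Z) (a : G) : ⁅z, a⁆ ∈ zpowers l :=
  comm_mem_swap (B.zL z hz a)

/-- The quotient by `Z` has class at most two. -/
theorem class_two (a b c : G) : ⁅c, ⁅a, b⁆⁆ ∈ Z := by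
  haveI := B.Zn
  have h1 : Nat.card (G ⧸ Z) = p ^ 3 := by
    have h := card_eq_card_quotient_mul_card_subgroup Z
    rw [B.cardZ, B.card, show p ^ 5 = p ^ 3 * p ^ 2 by ring] at h
    exact (mul_right_cancel₀ (pow_ne_zero 2 hp.out.ne_zero) h).symm
  haveI := (IsPGroup.of_card h1).isNilpotent
  have h2 : (⊤ : Subgroup (G ⧸ Z)).lowerCentralSeries 2 = ⊥ :=
    Subgroup.lowerCentralSeries_eq_bot_iff_nilpotencyClass_le.2
      ((CfsgLib.Transfer.nilpotencyClass_le_of_card h1).trans (by norm_num))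
  refine comm_mem_swap ?_
  rw [← QuotientGroup.eq_one_iff]
  show QuotientGroup.mk' Z _ = 1
  rw [map_commutatorElement, map_commutatorElement, ← mem_bot, ← h2]
  exact commutator_mem_commutator (commutator_mem_commutator (mem_top _) (mem_top _)) (mem_top _)

section Moving

variable {y : G} (hy : y ∉ normalizer (E : Set G))
include hy

local notation "N₀" => normalizer (E : Set G)

theorem s_mem : ⁅y, e⁆ ∈ N₀ := by
  rw [commutatorElement_def]
  exact mul_mem (B.Nn.conj_mem e B.eN y) (inv_mem B.eN)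

theorem s_notE : ⁅y, e⁆ ∉ E := fun hs => hy (mem_normalizer_fintype fun x hx => by
  obtain ⟨z, hz, k, rfl⟩ := B.eq_mul_pow hx
  rw [← conj_mul, ← conj_pow, show y * e * y⁻¹ = ⁅y, e⁆ * e by
    rw [commutatorElement_def, inv_mul_cancel_right]]
  exact mul_mem (B.ZE (B.Zn.conj_mem z hz y)) (pow_mem (mul_mem hs B.eE) k))

theorem y_ne : ⁅y, e⁆ ≠ 1 := fun h1 => B.s_notE hy (h1 ▸ one_mem E)

theorem exists_se : ∃ m : ℕ, ¬ p ∣ m ∧ ⁅⁅y, e⁆, e⁆ = l ^ m := by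
  obtain ⟨m, hm⟩ := exists_pow_eq (B.NL _ (B.s_mem hy) _ B.eN)
  refine ⟨m, fun ⟨q, hq⟩ => B.s_notE hy (B.cent (mem_centralizer_iff.2 fun x hx => ?_)), hm.symm⟩
  obtain ⟨z, hz, k, rfl⟩ := B.eq_mul_pow hx
  have h1 : Commute ⁅y, e⁆ e := commutatorElement_eq_one_iff_commute.1 (by
    rw [← hm, hq, pow_mul, B.lp, one_pow])
  exact ((B.Zc z hz _ (B.s_mem hy)).mul_right (h1.pow_right k)).eq.symm

theorem mem_Z_of_commute {x : G} (hx : x ∈ E) (hc : Commute ⁅y, e⁆ x) : x ∈ Z := by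
  obtain ⟨z, hz, k, rfl⟩ := B.eq_mul_pow hx
  refine mul_mem hz (pow_mem_of_dvd (by rw [B.ep]; exact one_mem Z)
    (dvd_of_pow_mem (K := centralizer {⁅y, e⁆}) (by rw [B.ep]; exact one_mem _) (fun he => ?_) ?_))
  · obtain ⟨m, hm, hse⟩ := B.exists_se hy
    rw [mem_centralizer_singleton_iff] at he
    rw [commutatorElement_eq_one_iff_commute.2 he.symm] at hse
    refine hm (B.indep m 0 0 ?_).1
    rw [← hse, pow_zero, one_mul, pow_zero, one_mul]
  · rw [mem_centralizer_singleton_iff]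
    have h1 := ((B.Zc z hz _ (B.s_mem hy)).inv_right).mul_right hc
    rw [inv_mul_cancel_left] at h1
    exact h1.eq.symm

theorem sp : ⁅y, e⁆ ^ p ∈ Z := by
  refine B.mem_Z_of_commute hy ?_ ((Commute.refl _).pow_right p)
  haveI : (E.subgroupOf N₀).Normal := normal_in_normalizer
  have h1 : E.relIndex N₀ = p := by
    have h2 := relIndex_mul_relIndex ⊥ E N₀ bot_le le_normalizer
    rw [relIndex_bot_left, relIndex_bot_left, B.cardE, B.cardN,
      show p ^ 4 = p ^ 3 * p by ring] at h2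
    exact mul_left_cancel₀ (pow_ne_zero 3 hp.out.ne_zero) h2
  have h3 := (E.subgroupOf N₀).pow_index_mem ⟨_, B.s_mem hy⟩
  rw [show (E.subgroupOf N₀).index = p from h1, mem_subgroupOf, SubgroupClass.coe_pow] at h3
  exact h3

theorem dvd_of_s_pow_mem {m : ℕ} (hm : ⁅y, e⁆ ^ m ∈ E) : p ∣ m :=
  dvd_of_pow_mem (B.ZE (B.sp hy)) (B.s_notE hy) hm

theorem dmem {x : G} (hx : x ∈ dsub Z e y) : ∃ m : ℕ, ∃ z ∈ Z, x = ⁅y, e⁆ ^ m * z := by
  haveI := B.Zn
  obtain ⟨u, hu, z, hz, rfl⟩ := mem_sup_of_normal_right.1 hx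
  obtain ⟨m, rfl⟩ := exists_pow_eq hu
  exact ⟨m, z, hz, rfl⟩

theorem sD : ⁅y, e⁆ ∈ dsub Z e y := mem_sup_left (mem_zpowers _)

theorem ZD : Z ≤ dsub Z e y := le_sup_right

theorem cenD {x : G} (hx : x ∈ dsub Z e y) (a : G) : ⁅a, x⁆ ∈ Z := by
  haveI := B.Zn
  have h1 : dsub Z e y ≤ cenMod Z := sup_le
    (zpowers_le.2 (mem_cenMod.2 fun a => B.class_two y e a))
    fun z hz => mem_cenMod.2 fun a => B.L_le (B.zL z hz a)
  exact mem_cenMod.1 (h1 hx) a

theorem Dn : (dsub Z e y).Normal := ⟨fun x hx a => by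
  rw [show a * x * a⁻¹ = ⁅a, x⁆ * x by rw [commutatorElement_def, inv_mul_cancel_right]]
  exact mul_mem (B.ZD hy (B.cenD hy hx a)) hx⟩

theorem DN : dsub Z e y ≤ N₀ := sup_le (zpowers_le.2 (B.s_mem hy)) B.ZN

theorem DE {x : G} (hx : x ∈ dsub Z e y) (hxE : x ∈ E) : x ∈ Z := by
  obtain ⟨m, z, hz, rfl⟩ := B.dmem hy hx
  exact mul_mem (pow_mem_of_dvd (B.sp hy)
    (B.dvd_of_s_pow_mem hy ((mul_mem_cancel_right (B.ZE hz)).1 hxE))) hz

theorem e_notD : e ∉ dsub Z e y := fun he => B.e_notZ (B.DE hy he B.eE)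

theorem cardD : Nat.card (dsub Z e y) = p ^ 3 := by
  refine card_eq_of_between (a := 2) B.pG (lt_of_le_of_ne (B.ZD hy) fun heq => ?_)
    (lt_of_le_of_ne (B.DN hy) fun heq => B.e_notD hy (heq ▸ B.eN)) B.cardZ B.cardN
  exact B.s_notE hy (B.ZE (heq ▸ B.sD hy))

theorem Dab {u v : G} (hu : u ∈ dsub Z e y) (hv : v ∈ dsub Z e y) : Commute u v := by
  obtain ⟨m, z, hz, rfl⟩ := B.dmem hy hu
  obtain ⟨n, w, hw, rfl⟩ := B.dmem hy hv
  have h1 : ∀ k : ℕ, ∀ z ∈ Z, Commute (⁅y, e⁆ ^ k) z := fun k z hz =>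
    B.Zc z hz _ (pow_mem (B.s_mem hy) k)
  exact (((Commute.refl ⁅y, e⁆).pow_pow m n).mul_right (h1 m w hw)).mul_left
    ((h1 n z hz).symm.mul_right (B.Zc w hw z (B.ZN hz)))

theorem nmem {x : G} (hx : x ∈ N₀) : ∃ k : ℕ, ∃ d ∈ dsub Z e y, x = e ^ k * d := by
  haveI := B.Dn hy
  have h1 : zpowers e ⊔ dsub Z e y = N₀ := eq_of_lt (a := 3) B.pG
    (lt_of_le_of_ne le_sup_right fun heq => B.e_notD hy (heq.symm ▸ mem_sup_left (mem_zpowers e)))
    (sup_le (zpowers_le.2 B.eN) (B.DN hy)) (B.cardD hy) B.cardN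
  rw [← h1] at hx
  obtain ⟨u, hu, d, hd, rfl⟩ := mem_sup_of_normal_right.1 hx
  obtain ⟨k, rfl⟩ := exists_pow_eq hu
  exact ⟨k, d, hd, rfl⟩

theorem sup_eq_top : zpowers y ⊔ N₀ = ⊤ := eq_of_lt (a := 4) B.pG
  (lt_of_le_of_ne le_sup_right fun heq => hy (heq.symm ▸ mem_sup_left (mem_zpowers y))) le_top
  B.cardN (by rw [Subgroup.card_top, B.card])

theorem smem (x : G) : ∃ i : ℕ, ∃ n ∈ N₀, x = y ^ i * n := by
  haveI := B.Nn
  obtain ⟨u, hu, n, hn, rfl⟩ := mem_sup_of_normal_right.1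
    ((B.sup_eq_top hy).ge (mem_top x) : x ∈ zpowers y ⊔ N₀)
  obtain ⟨i, rfl⟩ := exists_pow_eq hu
  exact ⟨i, n, hn, rfl⟩

theorem smem' (x : G) : ∃ n ∈ N₀, ∃ i : ℕ, x = n * y ^ i := by
  haveI := B.Nn
  obtain ⟨i, n, hn, rfl⟩ := B.smem hy x
  exact ⟨y ^ i * n * (y ^ i)⁻¹, B.Nn.conj_mem n hn _, i, by rw [inv_mul_cancel_right]⟩

theorem comS (a b : G) : ⁅a, b⁆ ∈ dsub Z e y := by
  haveI := B.Dn hy
  have h1 : Nat.card (G ⧸ dsub Z e y) = p ^ 2 := by
    have h := card_eq_card_quotient_mul_card_subgroup (dsub Z e y)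
    rw [B.cardD hy, B.card, show p ^ 5 = p ^ 2 * p ^ 3 by ring] at h
    exact (mul_right_cancel₀ (pow_ne_zero 3 hp.out.ne_zero) h).symm
  haveI := IsPGroup.isMulCommutative_of_card_eq_prime_sq h1
  rw [← QuotientGroup.eq_one_iff]
  show QuotientGroup.mk' _ _ = 1
  rw [map_commutatorElement, commutatorElement_eq_one_iff_commute]
  exact IsMulCommutative.is_comm.comm _ _

end Moving

end Base

end CfsgLib.Fusion.OrderPFive.CubeCase
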