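import Cfsg.Agent.Lib.Fusion.OrderPFive.CubeBase

/-!
An elementary abelian essential subgroup of order `p ^ 3` of a group of order `p ^ 5`: it is not
normal, its normalizer has centre of order `p ^ 2`, and it has a torus.
-/

set_option autoImplicit false
set_option linter.style.haveILetI false
set_option linter.unusedSectionVars false

namespace CfsgLib.Fusion.OrderPFive.CubeCase

open Cfsg Cfsg.FusionSystem Subgroup CfsgLib.Fusion CfsgLib.MaxClassEss
open scoped commutatorElement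

variable {p : ℕ} [hp : Fact p.Prime]

/-- An element of `p`-power order cannot scale an element of order `p`. -/
theorem conj_eq_self_of_pow {G : Type*} [Group G] {x a : G} (hx : x ^ p = 1) {m : ℕ}
    (ha : a ^ p ^ m = 1) {j : ℕ} (h : a * x * a⁻¹ = x ^ j) : a * x * a⁻¹ = x := by
  rcases eq_or_ne x 1 with rfl | hx1
  · simp
  have h1 : ∀ n : ℕ, a ^ n * x * (a ^ n)⁻¹ = x ^ j ^ n := by
    intro n
    induction n with
    | zero => simp
    | succ n ih =>
      rw [show a ^ (n + 1) * x * (a ^ (n + 1))⁻¹ = a * (a ^ n * x * (a ^ n)⁻¹) * a⁻¹ by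
        rw [pow_succ']; group, ih, ← conj_pow, h, ← pow_mul, ← pow_succ']
  have h2 := h1 (p ^ m)
  rw [ha, inv_one, mul_one, one_mul] at h2
  have h3 := cast_eq_of_pow_eq hx hx1 (a := 1) (b := j ^ p ^ m) (by rw [pow_one]; exact h2)
  rw [Nat.cast_pow, ZMod.pow_card_pow] at h3
  rw [h, ← pow_congr hx h3, pow_one]

variable {Ω : Type*} [Group Ω] {S : Subgroup Ω} [Finite S] {F : FusionSystem S} {E : Subgroup S}

theorem ab_exp (hel : Cfsg.IsElementaryAbelian p (E.map S.subtype)) :
    (∀ x ∈ E, ∀ y ∈ E, x * y = y * x) ∧ ∀ x ∈ E, x ^ p = 1 :=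
  ⟨fun x hx y hy => Subtype.ext (congrArg (fun t : E.map S.subtype => (t : Ω))
    (hel.1.is_comm.comm ⟨x, mem_coe hx⟩ ⟨y, mem_coe hy⟩)),
    fun x hx => Subtype.ext (by simpa using hel.2 _ (mem_map_of_mem S.subtype hx))⟩

variable (h : Hyp F p) (hE : F.IsEssential p (E.map S.subtype))
  (hel : Cfsg.IsElementaryAbelian p (E.map S.subtype)) (hcard : Nat.card E = p ^ 3)
include h hE hel hcard

theorem not_normal : ¬ E.Normal := fun hn => by
  obtain ⟨hab, hexp⟩ := ab_exp hel
  have hcent := centralizer_le_of_essential hE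
  haveI := h.pgroup.isNilpotent
  haveI := hn
  have hEb : E ≠ ⊥ := fun hb => by
    rw [hb, Subgroup.card_bot] at hcard
    exact (Nat.one_lt_pow (by norm_num) hp.out.one_lt).ne hcard
  obtain ⟨z, hz, hz1⟩ := (bot_or_exists_ne_one _).resolve_left
    (CfsgLib.Solvable.normal_inf_center_ne_bot E hEb)
  set K := zpowers z with hK
  have hKc : Nat.card K = p := by
    rw [hK, Nat.card_zpowers, orderOf_eq_prime (hexp z hz.1) hz1]
  have hzc : ∀ x ∈ K, ∀ a : S, Commute a x := fun x hx a => by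
    obtain ⟨i, rfl⟩ := exists_pow_eq hx
    exact Commute.pow_right (Subgroup.mem_center_iff.1 hz.2 a) i
  haveI hKn : K.Normal := ⟨fun x hx a => by
    rw [(hzc x hx a).eq, mul_inv_cancel_right]
    exact hx⟩
  -- a second step of a central series through `E`
  have hmap : E.map (QuotientGroup.mk' K) ≠ ⊥ := fun hb => by
    rw [Subgroup.map_eq_bot_iff, QuotientGroup.ker_mk'] at hb
    have := Subgroup.card_le_of_le hb
    rw [hKc, hcard] at this
    exact (Nat.lt_irrefl _) (lt_of_lt_of_le (by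
      simpa using Nat.pow_lt_pow_right hp.out.one_lt (show 1 < 3 by norm_num)) this)
  haveI : (E.map (QuotientGroup.mk' K)).Normal := hn.map _ (QuotientGroup.mk'_surjective K)
  obtain ⟨W, ⟨⟨w, hw, rfl⟩, hWc⟩, hW1⟩ := (bot_or_exists_ne_one _).resolve_left
    (CfsgLib.Solvable.normal_inf_center_ne_bot _ hmap)
  have hwK : ∀ a : S, ⁅a, w⁆ ∈ K := fun a => by
    rw [← QuotientGroup.eq_one_iff]
    show QuotientGroup.mk' K _ = 1
    rw [map_commutatorElement, commutatorElement_eq_one_iff_commute]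
    exact Subgroup.mem_center_iff.1 hWc _
  have hwnot : w ∉ K := fun hw' => hW1 ((QuotientGroup.eq_one_iff _).2 hw')
  -- the centralizer of `w` has index at most `p`
  let φ : S →* K := MonoidHom.mk' (fun a => ⟨⁅a, w⁆, hwK a⟩) fun a b => Subtype.ext (by
    have hc := hzc
    simp only [coe_mul]
    rw [commutatorElement_mul_left_eq_conj_mul, (hc _ (hwK b) a).eq, mul_inv_cancel_right]
    exact (hc _ (hwK b) _).eq.symm)
  obtain ⟨c, hcφ, hcE⟩ : ∃ c ∈ φ.ker, c ∉ E := by
    by_contra hcon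
    push Not at hcon
    have h1 := Subgroup.card_le_of_le (show φ.ker ≤ E from hcon)
    have h2 := φ.ker.card_mul_index
    rw [Subgroup.index_ker] at h2
    have h3 : Nat.card φ.range ≤ p := hKc ▸ Finite.card_subtype_le _
    have h4 : p ^ 5 ≤ p ^ 4 := by
      rw [← h.card, ← h2, pow_succ _ 3, ← hcard]
      exact Nat.mul_le_mul h1 h3
    rw [Nat.pow_le_pow_iff_right hp.out.one_lt] at h4
    omega
  have hcw : Commute c w := commutatorElement_eq_one_iff_commute.1 (congrArg Subtype.val hcφ)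
  have hHE : K ⊔ zpowers w ≤ E := sup_le (zpowers_le.2 hz.1) (zpowers_le.2 hw)
  have hcH : ∀ x ∈ K ⊔ zpowers w, Commute c x := fun x hx => by
    have h1 : K ⊔ zpowers w ≤ centralizer {c} := sup_le
      (zpowers_le.2 (mem_centralizer_singleton_iff.2 (Subgroup.mem_center_iff.1 hz.2 c).symm))
      (zpowers_le.2 (mem_centralizer_singleton_iff.2 hcw.eq.symm))
    exact (mem_centralizer_singleton_iff.1 (h1 hx)).symm
  have hH : Nat.card (K ⊔ zpowers w : Subgroup S) = p ^ 2 := card_eq_of_between h.pgroup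
    (lt_of_le_of_ne (le_sup_left : K ≤ K ⊔ zpowers w) fun heq =>
      hwnot (heq.ge (mem_sup_right (mem_zpowers w))))
    (lt_of_le_of_ne hHE fun heq => hcE (hcent (mem_centralizer_iff.2 fun x hx =>
      (hcH x (heq.symm ▸ hx)).eq.symm))) (a := 1) (by rw [hKc, pow_one]) hcard
  have hcN : c ∈ normalizer (E : Set S) := by rw [normalizer_eq_top]; exact mem_top c
  obtain ⟨L, hL, hLE, hcL⟩ := exists_line h.pgroup hab hexp hcent hcard hH hHE hcN hcE hcH
  have h1 := (cube_torus h.pgroup h.sat hE hel hcard hcN hcE hL hLE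
    (fun x hx => by rw [← commutatorElement_def]; exact hcL x hx)).1
  rw [normalizer_eq_top, Subgroup.card_top, h.card] at h1
  have := Nat.pow_right_injective hp.out.two_le h1
  omega

/-- The relations around `E`, with its torus. -/
theorem exists_base : ∃ (Z : Subgroup S) (l k e : S), Base p E Z l k e ∧
    ∀ a a' : ℕ, ((a : ZMod p) * (a' : ZMod p)) = 1 → ∃ θ, MapS F E θ ∧
      (∀ x ∈ E, θ x ∈ E) ∧ θ l = l ^ a ∧ θ k = k ∧ θ e = e ^ a' := by
  obtain ⟨hab, hexp⟩ := ab_exp hel
  have hcent := centralizer_le_of_essential hE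
  have hnn := not_normal h hE hel hcard
  set N := normalizer (E : Set S) with hNdef
  haveI := h.pgroup.isNilpotent
  have hNtop : N ≠ ⊤ := fun ht => hnn (normalizer_eq_top_iff.1 ht)
  have hEN : E < N := Group.normalizerCondition_of_isNilpotent E
    (lt_top_iff_ne_top.2 fun ht => hnn (ht ▸ inferInstance))
  have hcardN : Nat.card N = p ^ 4 := card_eq_of_between h.pgroup hEN
    (lt_top_iff_ne_top.2 hNtop) hcard (by rw [Subgroup.card_top, h.card])
  have hindex : N.index = p := by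
    have h1 := N.card_mul_index
    rw [hcardN, h.card, show p ^ 5 = p ^ 4 * p by ring] at h1
    exact mul_left_cancel₀ (pow_ne_zero 4 hp.out.ne_zero) h1
  haveI hNn : N.Normal := normal_of_index_eq_minFac_card (by
    rw [hindex, h.card, Nat.Prime.pow_minFac hp.out (by norm_num)])
  obtain ⟨y, -, hy⟩ := SetLike.exists_of_lt (lt_top_iff_ne_top.2 hNtop)
  obtain ⟨x₀, hx₀, hx₀E⟩ : ∃ x ∈ E, y * x * y⁻¹ ∉ E := by
    by_contra hcon
    push Not at hcon
    exact hy (mem_normalizer_fintype hcon)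
  set E' : Subgroup S := E.map (MulAut.conj y).toMonoidHom with hE'
  set Z : Subgroup S := E ⊓ E' with hZdef
  set c := y * x₀ * y⁻¹ with hcdef
  have hcE' : c ∈ E' := ⟨x₀, hx₀, rfl⟩
  have hE'N : E' ≤ N := by
    rintro _ ⟨x, hx, rfl⟩
    exact hNn.conj_mem x (hEN.le hx) y
  have hcN : c ∈ N := hE'N hcE'
  have hE'ab : ∀ u ∈ E', ∀ v ∈ E', Commute u v := by
    rintro _ ⟨u, hu, rfl⟩ _ ⟨v, hv, rfl⟩
    exact (show Commute u v from hab u hu v hv).map _
  have hcardZ : Nat.card Z = p ^ 2 := by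
    have hE'c : Nat.card E' = p ^ 3 := by
      rw [hE', card_map_of_injective (MulAut.conj y).injective, hcard]
    have hEN' : E.relIndex N = p := by
      have h2 := relIndex_mul_relIndex ⊥ E N bot_le hEN.le
      rw [relIndex_bot_left, relIndex_bot_left, hcard, hcardN,
        show p ^ 4 = p ^ 3 * p by ring] at h2
      exact mul_left_cancel₀ (pow_ne_zero 3 hp.out.ne_zero) h2
    have h1 := relIndex_mul_relIndex ⊥ Z E' bot_le inf_le_right
    rw [relIndex_bot_left, relIndex_bot_left, hE'c, hZdef, inf_relIndex_right] at h1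
    have h3 : E.relIndex E' ≤ p := hEN' ▸
      relIndex_le_of_le_right hE'N (by rw [hEN']; exact hp.out.ne_zero)
    obtain ⟨k, hk⟩ := (h.pgroup.to_subgroup Z).exists_card_eq
    have h4 : p ^ 3 ≤ p ^ k * p := by
      rw [← h1, ← hZdef, hk]
      exact Nat.mul_le_mul_left _ h3
    rw [← pow_succ, Nat.pow_le_pow_iff_right hp.out.one_lt] at h4
    have h5 : Nat.card Z < Nat.card E' := lt_of_le_of_ne (Subgroup.card_le_of_le inf_le_right)
      fun e => hx₀E ((eq_of_le_of_card_ge (inf_le_right : Z ≤ E') e.ge).ge hcE').1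
    rw [hE'c, hk, Nat.pow_lt_pow_iff_right hp.out.one_lt] at h5
    rw [hk, show k = 2 by omega]
  have hcZ : ∀ x ∈ Z, Commute c x := fun x hx => hE'ab c hcE' x hx.2
  obtain ⟨L, hL, hLE, hcL⟩ :=
    exists_line h.pgroup hab hexp hcent hcard hcardZ inf_le_left hcN hx₀E hcZ
  obtain ⟨-, l, k, e, hl, hk, he, hl1, hcl, hck, hce, hind, hspan, htor⟩ :=
    cube_torus h.pgroup h.sat hE hel hcard hcN hx₀E hL hLE
      (fun x hx => by rw [← commutatorElement_def]; exact hcL x hx)
  -- `Z` consists of the elements of `E` commuting with `c`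
  have hfix : ∀ i j : ℕ, Commute c (l ^ i * k ^ j) := fun i j =>
    ((show Commute c l from mul_inv_eq_iff_eq_mul.1 hcl).pow_right i).mul_right
      ((show Commute c k from mul_inv_eq_iff_eq_mul.1 hck).pow_right j)
  have hlp : l ^ p = 1 := hexp l hl
  have hmemC : ∀ x ∈ E, Commute c x → ∃ i j, x = l ^ i * k ^ j := fun x hx hcx => by
    obtain ⟨i, j, m, rfl⟩ := hspan x hx
    have h1 : c * (l ^ i * k ^ j * e ^ m) * c⁻¹ = l ^ i * k ^ j * e ^ m := by
      rw [hcx.eq, mul_inv_cancel_right]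
    rw [← conj_mul, (hfix i j).eq, mul_inv_cancel_right, ← conj_pow, hce,
      (show Commute l e from hab l hl e he).mul_pow, mul_right_inj, mul_eq_right] at h1
    obtain ⟨q, rfl⟩ := (hind m 0 0 (by rw [h1]; simp)).1
    exact ⟨i, j, by rw [pow_mul, hexp e he, one_pow, mul_one]⟩
  have heq : Z = E ⊓ centralizer {c} := eq_of_le_of_card_ge
    (fun x hx => ⟨hx.1, mem_centralizer_singleton_iff.2 (hcZ x hx).eq.symm⟩) (by
      obtain ⟨r, hr⟩ := (h.pgroup.to_subgroup (E ⊓ centralizer {c})).exists_card_eq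
      have h1 := card_lt_of_lt h.pgroup (lt_of_le_of_ne (inf_le_left : E ⊓ centralizer {c} ≤ E)
        fun heq => hl1 (by
          have h2 := mem_centralizer_singleton_iff.1 (heq.ge he).2
          rw [← h2, mul_inv_cancel_right] at hce
          exact mul_eq_right.1 hce.symm)) hr
      rw [hcard, Nat.pow_le_pow_iff_right hp.out.one_lt] at h1
      rw [hcardZ, hr]
      exact Nat.pow_le_pow_right hp.out.pos (by omega))
  have hZmem : ∀ x, x ∈ Z ↔ ∃ i j : ℕ, x = l ^ i * k ^ j := by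
    refine fun x => ⟨fun hx => hmemC x hx.1 (hcZ x hx), ?_⟩
    rintro ⟨i, j, rfl⟩
    rw [heq]
    exact ⟨mul_mem (pow_mem hl i) (pow_mem hk j),
      mem_centralizer_singleton_iff.2 (hfix i j).eq.symm⟩
  have hlZ : l ∈ Z := (hZmem l).2 ⟨1, 0, by simp⟩
  have hkZ : k ∈ Z := (hZmem k).2 ⟨0, 1, by simp⟩
  -- `E` and `c` generate the normalizer
  have hsup : E ⊔ zpowers c = N := eq_of_lt h.pgroup
    (lt_of_le_of_ne le_sup_left fun heq => hx₀E (heq.symm ▸ mem_sup_right (mem_zpowers c)))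
    (sup_le hEN.le (zpowers_le.2 hcN)) hcard hcardN
  have hZc : ∀ x ∈ Z, ∀ n ∈ N, Commute n x := fun x hx n hn => by
    have h1 : E ⊔ zpowers c ≤ centralizer {x} := sup_le
      (fun u hu => mem_centralizer_singleton_iff.2 (hab u hu x hx.1))
      (zpowers_le.2 (mem_centralizer_singleton_iff.2 (hcZ x hx).eq))
    exact mem_centralizer_singleton_iff.1 (h1 (hsup.ge hn))
  have hLc : ∀ x ∈ zpowers l, ∀ m ∈ E ⊔ zpowers c, Commute m x := fun x hx m hm =>
    hZc x (zpowers_le.2 hlZ hx) m (hsup.le hm)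
  have hcl1 : ∀ x ∈ E, ⁅c, x⁆ ∈ zpowers l := fun x hx => by
    obtain ⟨i, j, m, rfl⟩ := hspan x hx
    rw [commutatorElement_def, ← conj_mul, (hfix i j).eq, mul_inv_cancel_right, ← conj_pow, hce,
      (show Commute l e from hab l hl e he).mul_pow, mul_inv_rev,
      show l ^ i * k ^ j * (l ^ m * e ^ m) * ((e ^ m)⁻¹ * (l ^ i * k ^ j)⁻¹) =
        l ^ i * k ^ j * l ^ m * (l ^ i * k ^ j)⁻¹ by group,
      hab _ (mul_mem (pow_mem hl i) (pow_mem hk j)) _ (pow_mem hl m), mul_inv_cancel_right]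
    exact pow_mem (mem_zpowers l) m
  have hNE : ∀ a ∈ E, ∀ b ∈ N, ⁅a, b⁆ ∈ zpowers l := fun a ha b hb =>
    comm_mem_sup hLc (fun u hu => by
      rw [commutatorElement_eq_one_iff_commute.2 (hab a ha u hu)]; exact one_mem _)
      (comm_mem_swap (hcl1 a ha)) (hsup.ge hb)
  have hNc : ∀ b ∈ N, ⁅b, c⁆ ∈ zpowers l := fun b hb => comm_mem_swap
    (comm_mem_sup hLc hcl1 (by rw [commutatorElement_self]; exact one_mem _) (hsup.ge hb))
  have hNL : ∀ a ∈ N, ∀ b ∈ N, ⁅a, b⁆ ∈ zpowers l := fun a ha b hb =>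
    comm_mem_sup hLc (fun u hu => comm_mem_swap (hNE u hu a ha)) (hNc a ha) (hsup.ge hb)
  -- `Z` is the centre of the normalizer, and its series is fixed by `S`
  have hZn : Z.Normal := ⟨fun x hx a => by
    have h2 : ∀ n ∈ N, Commute n (a * x * a⁻¹) := fun n hn => by
      have h3 := (hZc x hx _ (hNn.conj_mem' n hn a)).map (MulAut.conj a)
      simpa [MulAut.conj_apply, mul_assoc] using h3
    have h4 : a * x * a⁻¹ ∈ E :=
      hcent (mem_centralizer_iff.2 fun u hu => (h2 u (hEN.le hu)).eq)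
    rw [heq]
    exact ⟨h4, mem_centralizer_singleton_iff.2 (h2 c hcN).eq.symm⟩⟩
  obtain ⟨d, hd⟩ := h.pgroup.exists_card_eq
  have hord : ∀ a : S, a ^ p ^ d = 1 := fun a => hd ▸ pow_card_eq_one'
  have hlcen : ∀ a : S, Commute a l := fun a => by
    have hlc : ⁅c, e⁆ = l := by rw [commutatorElement_def, hce, mul_inv_cancel_right]
    have h1 : a * l * a⁻¹ ∈ zpowers l := by
      rw [show a * l * a⁻¹ = MulAut.conj a ⁅c, e⁆ by rw [hlc]; rfl, map_commutatorElement]
      exact hNL _ (hNn.conj_mem c hcN a) _ (hNn.conj_mem e (hEN.le he) a)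
    obtain ⟨j, hj⟩ := exists_pow_eq h1
    exact mul_inv_eq_iff_eq_mul.1 (conj_eq_self_of_pow hlp (hord a) hj.symm)
  haveI hLn : (zpowers l).Normal := ⟨fun x hx a => by
    obtain ⟨i, rfl⟩ := exists_pow_eq hx
    rw [((hlcen a).pow_right i).eq, mul_inv_cancel_right]
    exact pow_mem (mem_zpowers l) i⟩
  have hcenL : zpowers l ≤ cenMod (zpowers l) := zpowers_le.2 (mem_cenMod.2 fun a => by
    rw [commutatorElement_eq_one_iff_commute.2 (hlcen a)]; exact one_mem _)
  have hzL : ∀ x ∈ Z, ∀ a : S, ⁅a, x⁆ ∈ zpowers l := fun x hx a => by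
    have hk' : k ∈ cenMod (zpowers l) := mem_cenMod.2 fun a => by
      obtain ⟨i, j, hij⟩ := (hZmem _).1 (hZn.conj_mem k hkZ a)
      set π := QuotientGroup.mk' (zpowers l)
      have hπl : π l = 1 := (QuotientGroup.eq_one_iff l).2 (mem_zpowers l)
      have h1 := congrArg π hij
      simp only [_root_.map_mul, _root_.map_pow, _root_.map_inv, hπl, one_pow, one_mul] at h1
      have h2 := conj_eq_self_of_pow (x := π k) (a := π a)
        (by rw [← _root_.map_pow, hexp k hk, _root_.map_one])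
        (m := d) (by rw [← _root_.map_pow, hord a, _root_.map_one]) h1
      rw [← QuotientGroup.eq_one_iff]
      show π _ = 1
      rw [map_commutatorElement, commutatorElement_def, h2, mul_inv_cancel]
    obtain ⟨i, j, rfl⟩ := (hZmem x).1 hx
    exact mem_cenMod.1 (mul_mem (pow_mem (hcenL (mem_zpowers l)) i) (pow_mem hk' j)) a
  have hcp : c ^ p = 1 := by rw [hcdef, conj_pow, hexp x₀ hx₀, mul_one, mul_inv_cancel]
  have hNexp : ∀ x ∈ N, x ^ p = 1 := fun x hx => by
    let T : Subgroup S :=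
      { carrier := {u | u ∈ N ∧ u ^ p = 1}
        one_mem' := ⟨one_mem _, one_pow p⟩
        mul_mem' := by
          rintro u v ⟨hu, hu1⟩ ⟨hv, hv1⟩
          refine ⟨mul_mem hu hv, ?_⟩
          obtain ⟨q, hq⟩ := exists_pow_eq (hNL v hv u hu)
          rw [mul_pow_of_central (fun g hg => hg ▸ hq ▸
            ⟨(hlcen u).pow_right q, (hlcen v).pow_right q⟩) p, hu1, hv1, ← hq, ← pow_mul,
            mul_comm q, one_mul, one_mul]
          obtain ⟨t, ht⟩ := hp.out.dvd_choose_self (k := 2) (by norm_num)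
            (lt_of_le_of_ne hp.out.two_le (Ne.symm h.odd))
          rw [ht, mul_assoc, pow_mul, hlp, one_pow]
        inv_mem' := by
          rintro u ⟨hu, hu1⟩
          exact ⟨inv_mem hu, by rw [inv_pow, hu1, inv_one]⟩ }
    have hT : E ⊔ zpowers c ≤ T := sup_le (fun u hu => ⟨hEN.le hu, hexp u hu⟩)
      (zpowers_le.2 ⟨hcN, hcp⟩)
    exact (hT (hsup.ge hx)).2
  exact ⟨Z, l, k, e, ⟨h.pgroup, h.card, hcard, hab, hexp, hcent, hcardN, hcardZ, inf_le_left,
    hZn, hZc, hZmem, he, hNexp, hspan, hind, hlcen, hzL, hNL⟩, htor⟩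

end CfsgLib.Fusion.OrderPFive.CubeCase
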