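import Cfsg.Agent.Lib.Fusion.OrderPFive.CubeSetup

/-!
The torus of an elementary abelian essential subgroup of order `p ^ 3` extends to the whole group.
-/

set_option autoImplicit false
set_option linter.style.haveILetI false
set_option linter.unusedSectionVars false

namespace CfsgLib.Fusion.OrderPFive.CubeCase

open Cfsg Cfsg.FusionSystem Subgroup CfsgLib.Fusion CfsgLib.MaxClassEss
open scoped commutatorElement

theorem inv_mul_conj_mem {G : Type*} [Group G] {K : Subgroup G} (hK : K.Normal) {a x : G}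
    (h : ⁅a, x⁆ ∈ K) : x⁻¹ * (a * x * a⁻¹) ∈ K := by
  have h1 : x⁻¹ * (a * x * a⁻¹) = x⁻¹ * ⁅a, x⁆ * x := by rw [commutatorElement_def]; group
  rw [h1]
  exact hK.conj_mem' _ h x

variable {p : ℕ} [hp : Fact p.Prime]
variable {Ω : Type*} [Group Ω] {S : Subgroup Ω} [Finite S] {F : FusionSystem S}
  {E Z : Subgroup S} {l k e : S} (B : Base p E Z l k e)

include B

theorem theta_extends (h : Hyp F p) (hE : F.IsEssential p (E.map S.subtype)) {y : S}
    (hy : y ∉ normalizer (E : Set S)) {a a' : ℕ} {θ : S → S} (hθ : MapS F E θ)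
    (hθE : ∀ x ∈ E, θ x ∈ E) (hl : θ l = l ^ a) (hk : θ k = k) (he : θ e = e ^ a') :
    ∃ f, MapS F ⊤ f ∧ f l = l ^ a ∧ f k = k ∧ f e = e ^ a' ∧
      ∀ x ∈ dsub Z e y, f x ∈ dsub Z e y := by
  have hfn := fullyNormalized_of_essential hE
  -- first to the normalizer
  have hθL : ∀ x ∈ zpowers l, θ x ∈ zpowers l := fun x hx => by
    obtain ⟨i, rfl⟩ := exists_pow_eq hx
    rw [map_pow hθ (B.ZE B.lZ), hl]
    exact pow_mem (pow_mem (mem_zpowers l) a) i
  obtain ⟨f₁, hf₁, hf₁N, hff⟩ := extend_chain h.pgroup h.sat hfn 2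
    (fun i => match i with | 0 => ⊥ | 1 => zpowers l | _ => E) rfl le_rfl
    (fun i hi => by
      interval_cases i
      · exact bot_le
      · exact B.L_le.trans B.ZE)
    (fun g hg i hi x hx hxi => by
      interval_cases i
      · show _ ∈ (⊥ : Subgroup S)
        rw [mem_bot, (B.Lc hxi g).eq, mul_inv_cancel_right, inv_mul_cancel]
      · exact inv_mul_conj_mem B.Ln (B.NL g hg x (le_normalizer hx)))
    hθ hθE (fun i hi x hx hxi => by
      interval_cases i
      · replace hxi : x = 1 := mem_bot.1 hxi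
        exact mem_bot.2 (by rw [hxi, map_one hθ])
      · exact hθL x hxi
      · exact hθE x hxi)
  set N := normalizer (E : Set S) with hN
  haveI := B.Zn
  have hf₁l : f₁ l = l ^ a := (hff l (B.ZE B.lZ)).trans hl
  have hf₁k : f₁ k = k := (hff k (B.ZE B.hZ)).trans hk
  have hZ : ∀ x ∈ Z, f₁ x ∈ Z := fun x hx => by
    obtain ⟨i, j, rfl⟩ := (B.Zmem x).1 hx
    rw [map_mul hf₁ (pow_mem (B.ZN B.lZ) i) (pow_mem (B.ZN B.hZ) j),
      map_pow hf₁ (B.ZN B.lZ), map_pow hf₁ (B.ZN B.hZ), hf₁l, hf₁k, ← pow_mul]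
    exact (B.Zmem _).2 ⟨_, _, rfl⟩
  -- the image of `D` is again `D`
  have hD : ∀ x ∈ dsub Z e y, f₁ x ∈ dsub Z e y := by
    set s := ⁅y, e⁆ with hs
    have hsN : s ∈ N := B.s_mem hy
    suffices hsD : f₁ s ∈ dsub Z e y by
      intro x hx
      obtain ⟨m, z, hz, rfl⟩ := B.dmem hy hx
      rw [map_mul hf₁ (pow_mem hsN m) (B.ZN hz), map_pow hf₁ hsN]
      exact mul_mem (pow_mem hsD m) (B.ZD hy (hZ z hz))
    obtain ⟨q, d, hd, hfs⟩ := B.nmem hy (hf₁N s hsN)
    obtain ⟨m, z, hz, rfl⟩ := B.dmem hy hd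
    by_cases hq : p ∣ q
    · rw [hfs]
      obtain ⟨r, rfl⟩ := hq
      rw [pow_mul, B.ep, one_pow, one_mul]
      exact hd
    exfalso
    obtain ⟨q', hq'⟩ := exists_mul_eq_one hq
    set i := m * q' with hi
    obtain ⟨f₁i, hf₁i, hf₁iN, hif, hfi⟩ := map_inverse hf₁ hf₁N
    have hZi : ∀ x ∈ Z, f₁i x ∈ Z := fun x hx => by
      obtain ⟨x', hx', rfl⟩ := map_surj_of_le hf₁ B.ZN hZ hx
      rw [hif x' (B.ZN hx')]
      exact hx'
    have hcjN : ∀ x ∈ E, cj (y ^ i) x ∈ N := fun x hx => B.Nn.conj_mem x (le_normalizer hx) _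
    have hg : MapS F E (f₁i ∘ cj (y ^ i)) := map_comp (map_cj F E (y ^ i)) hf₁i hcjN
    set π := QuotientGroup.mk' Z with hπ
    have hse : Commute (π s) (π e) := commute_mk_of_mem (B.L_le (B.NL s hsN e B.eN))
    have hπz : π z = 1 := (QuotientGroup.eq_one_iff z).2 hz
    have hπe : π e ^ p = 1 := by rw [← _root_.map_pow, B.ep, _root_.map_one]
    have h1 : π (f₁ s) ^ q' = π e * π s ^ i := by
      rw [hfs, _root_.map_mul, _root_.map_mul, _root_.map_pow, _root_.map_pow, hπz, mul_one,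
        (hse.symm.pow_pow q m).mul_pow, ← pow_mul, ← pow_mul, hi,
        pow_congr hπe (a := q * q') (b := 1) (by rw [Nat.cast_mul, hq', Nat.cast_one]), pow_one]
    have h2 := comm_pow_mod Z (x := y) (y := e) (a := 1) (b := 1) (m := i) (n := 1)
      (B.class_two y e) (by rw [commutatorElement_one_left]; exact one_mem Z)
      (by rw [commutatorElement_one_right]; exact one_mem Z)
    simp only [mul_one, pow_one] at h2
    rw [← QuotientGroup.eq] at h2
    have h3 : π (y ^ i * e * (y ^ i)⁻¹) = π (f₁ s) ^ q' := by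
      rw [h1, show y ^ i * e * (y ^ i)⁻¹ = ⁅y ^ i, e⁆ * e by
        rw [commutatorElement_def, inv_mul_cancel_right], _root_.map_mul,
        show π ⁅y ^ i, e⁆ = π (s ^ i) from h2.symm, _root_.map_pow, (hse.pow_left i).eq]
    rw [← _root_.map_pow, hπ, QuotientGroup.mk'_apply, QuotientGroup.mk'_apply,
      QuotientGroup.eq] at h3
    obtain ⟨z', hz', hzz⟩ := map_surj_of_le hf₁ B.ZN hZ (Z.inv_mem h3)
    have hge : f₁i (cj (y ^ i) e) = s ^ q' * z' := by
      have h4 : cj (y ^ i) e = f₁ (s ^ q' * z') := by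
        rw [map_mul hf₁ (pow_mem hsN q') (B.ZN hz'), hzz, map_pow hf₁ hsN, cj_apply]
        group
      rw [h4, hif _ (mul_mem (pow_mem hsN q') (B.ZN hz'))]
    have hgD : ∀ x ∈ E, (f₁i ∘ cj (y ^ i)) x ∈ dsub Z e y := fun x hx => by
      obtain ⟨w, hw, r, rfl⟩ := B.eq_mul_pow hx
      rw [map_mul hg (B.ZE hw) (pow_mem B.eE r), map_pow hg B.eE]
      refine mul_mem (B.ZD hy (hZi _ (B.Zn.conj_mem w hw _))) (pow_mem ?_ r)
      rw [Function.comp_apply, hge]
      exact mul_mem (pow_mem (B.sD hy) q') (B.ZD hy hz')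
    have h5 := card_normalizer_le hfn hg hgD (by rw [B.cardD hy, B.cardE])
    haveI := B.Dn hy
    rw [normalizer_eq_top, Subgroup.card_top, B.card, B.cardN,
      Nat.pow_le_pow_iff_right hp.out.one_lt] at h5
    omega
  -- then to the group
  haveI := B.Dn hy
  obtain ⟨f, hf, hfN⟩ := extend_top h.pgroup h.sat B.Nn 4
    (fun i => match i with | 0 => ⊥ | 1 => zpowers l | 2 => Z | 3 => dsub Z e y | _ => N)
    rfl le_rfl
    (fun i hi => by
      interval_cases i
      · exact bot_le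
      · exact B.L_le
      · exact B.ZD hy
      · exact B.DN hy)
    (fun g i hi x hx hxi => by
      interval_cases i
      · show _ ∈ (⊥ : Subgroup S)
        rw [mem_bot, (B.Lc hxi g).eq, mul_inv_cancel_right, inv_mul_cancel]
      · exact inv_mul_conj_mem B.Ln (B.zL x hxi g)
      · exact inv_mul_conj_mem B.Zn (B.cenD hy hxi g)
      · exact inv_mul_conj_mem (B.Dn hy) (B.comS hy g x))
    hf₁ hf₁N (fun i hi x hx hxi => by
      interval_cases i
      · replace hxi : x = 1 := mem_bot.1 hxi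
        exact mem_bot.2 (by rw [hxi, map_one hf₁])
      · rw [hff x (B.ZE (B.L_le hxi))]; exact hθL x hxi
      · exact hZ x hxi
      · exact hD x hxi
      · exact hf₁N x hx)
  exact ⟨f, hf, (hfN l (B.ZN B.lZ)).trans hf₁l, (hfN k (B.ZN B.hZ)).trans hf₁k,
    ((hfN e B.eN).trans (hff e B.eE)).trans he,
    fun x hx => by rw [hfN x (B.DN hy hx)]; exact hD x hx⟩

end CfsgLib.Fusion.OrderPFive.CubeCase
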