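import Cfsg.Agent.Lib.MaxClassEss.Bridge
import Cfsg.Agent.Lib.Fusion.NormalCriteria
import Cfsg.Agent.Lib.Invol.PlanePairs

/-!
Saturated systems on a group of order `p ^ 5` without an abelian subgroup of index `p`: the setting,
and the extension of maps that preserve a series on which the normalizer acts trivially.
-/

set_option autoImplicit false
set_option linter.style.haveILetI false
set_option linter.unusedSectionVars false

namespace CfsgLib.Fusion.OrderPFive

open Cfsg Cfsg.FusionSystem Subgroup CfsgLib.Fusion CfsgLib.MaxClassEss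

variable {Ω : Type*} [Group Ω] {S : Subgroup Ω} [Finite S] {p : ℕ}

/-- A saturated system on a group of order `p ^ 5`, `p` odd other than `7`, in which every subgroup
of index `p` is nonabelian. -/
structure Hyp (F : FusionSystem S) (p : ℕ) : Prop where
  pgroup : IsPGroup p S
  sat : F.IsSaturated p
  odd : p ≠ 2
  ne_seven : p ≠ 7
  card : Nat.card S = p ^ 5
  noAb : ∀ A : Subgroup S, A.index = p → ¬ IsMulCommutative A

/-- Some element outside the derived subgroup is fixed modulo it by all automorphisms of `S` in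
the system. -/
def HasFixedMod (F : FusionSystem S) : Prop :=
  ∃ x : S, x ∉ _root_.commutator S ∧ ∀ f : S → S, MapS F ⊤ f → x⁻¹ * f x ∈ _root_.commutator S

variable {F : FusionSystem S} {Q R E : Subgroup S} {f g : S → S}

/-! ### Maps read on `↥S` -/

theorem map_mul (hf : MapS F Q f) {x y : S} (hx : x ∈ Q) (hy : y ∈ Q) :
    f (x * y) = f x * f y := by
  obtain ⟨g, hg, hgf⟩ := hf
  refine Subtype.ext ?_
  rw [coe_mul, ← hgf _ (mul_mem hx hy), ← hgf x hx, ← hgf y hy, coe_mul,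
    hg.map_mul (mem_coe hx) (mem_coe hy)]

theorem map_inj (hf : MapS F Q f) {x y : S} (hx : x ∈ Q) (hy : y ∈ Q) (h : f x = f y) :
    x = y := by
  obtain ⟨g, hg, hgf⟩ := hf
  exact Subtype.ext (hg.inj (mem_coe hx) (mem_coe hy) (by rw [hgf x hx, hgf y hy, h]))

theorem map_one (hf : MapS F Q f) : f 1 = 1 := by
  have := map_mul hf Q.one_mem Q.one_mem
  rw [one_mul] at this
  exact mul_eq_left.1 this.symm

theorem map_inv (hf : MapS F Q f) {x : S} (hx : x ∈ Q) : f x⁻¹ = (f x)⁻¹ := by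
  have := map_mul hf (Q.inv_mem hx) hx
  rw [inv_mul_cancel, map_one hf] at this
  exact eq_inv_of_mul_eq_one_left this.symm

theorem map_pow (hf : MapS F Q f) {x : S} (hx : x ∈ Q) (m : ℕ) : f (x ^ m) = f x ^ m := by
  induction m with
  | zero => rw [pow_zero, pow_zero, map_one hf]
  | succ m ih => rw [pow_succ, map_mul hf (Q.pow_mem hx m) hx, ih, pow_succ]

theorem map_conj (hf : MapS F Q f) {a x : S} (ha : a ∈ Q) (hx : x ∈ Q) :
    f (a * x * a⁻¹) = f a * f x * (f a)⁻¹ := by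
  rw [map_mul hf (mul_mem ha hx) (inv_mem ha), map_mul hf ha hx, map_inv hf ha]

theorem map_comm (hf : MapS F Q f) {x y : S} (hx : x ∈ Q) (hy : y ∈ Q) :
    f (x * y * x⁻¹ * y⁻¹) = f x * f y * (f x)⁻¹ * (f y)⁻¹ := by
  rw [map_mul hf (mul_mem (mul_mem hx hy) (inv_mem hx)) (inv_mem hy), map_conj hf hx hy,
    map_inv hf hy]

theorem map_mono (hf : MapS F R f) (h : Q ≤ R) : MapS F Q f := by
  obtain ⟨g, hg, hgf⟩ := hf
  exact ⟨g, hg.mono (Subgroup.map_mono h), fun x hx => hgf x (h hx)⟩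

theorem map_congr (hf : MapS F Q f) (h : ∀ x ∈ Q, f x = g x) : MapS F Q g := by
  obtain ⟨k, hk, hkf⟩ := hf
  exact ⟨k, hk, fun x hx => by rw [hkf x hx, h x hx]⟩

theorem map_comp (hf : MapS F Q f) (hg : MapS F R g) (h : ∀ x ∈ Q, f x ∈ R) :
    MapS F Q (g ∘ f) := by
  obtain ⟨k, hk, hkf⟩ := hf
  obtain ⟨k', hk', hkg⟩ := hg
  refine ⟨_, hk.comp hk' ?_, fun x hx => ?_⟩
  · rintro _ ⟨x, hx, rfl⟩
    rw [coe_subtype, hkf x hx]
    exact mem_coe (h x hx)
  · show k' (k (x : Ω)) = _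
    rw [hkf x hx, hkg _ (h x hx)]
    rfl

theorem map_cj (F : FusionSystem S) (Q : Subgroup S) (a : S) : MapS F Q (cj a) :=
  ⟨_, isMap_conj F (map_subtype_le Q) a.2, fun x _ => by simp [cj]⟩

/-- A map of a subgroup into itself is onto it. -/
theorem map_surj (hf : MapS F Q f) (hfQ : ∀ x ∈ Q, f x ∈ Q) {y : S} (hy : y ∈ Q) :
    ∃ x ∈ Q, f x = y := by
  have hi : Function.Injective fun x : Q => (⟨f x, hfQ x x.2⟩ : Q) := fun x y h =>
    Subtype.ext (map_inj hf x.2 y.2 (congrArg Subtype.val h))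
  obtain ⟨x, hx⟩ := (Finite.injective_iff_bijective.1 hi).2 ⟨y, hy⟩
  exact ⟨x, x.2, congrArg Subtype.val hx⟩

/-- A map of a subgroup into itself preserving a smaller subgroup is onto that one. -/
theorem map_surj_of_le (hf : MapS F Q f) (hRQ : R ≤ Q) (hfR : ∀ x ∈ R, f x ∈ R) {y : S}
    (hy : y ∈ R) : ∃ x ∈ R, f x = y :=
  map_surj (map_mono hf hRQ) hfR hy

theorem map_inverse (hf : MapS F Q f) (hfQ : ∀ x ∈ Q, f x ∈ Q) :
    ∃ f', MapS F Q f' ∧ (∀ x ∈ Q, f' x ∈ Q) ∧ (∀ x ∈ Q, f' (f x) = x) ∧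
      ∀ x ∈ Q, f (f' x) = x := by
  obtain ⟨k, hk, hkf⟩ := hf
  have hi := img_eq_of_stable hk hkf hfQ
  obtain ⟨k', hk', hkk, hky, -⟩ := hk.exists_inv
  obtain ⟨f', hf', hfg'⟩ := mapS_of_isMap (Q := Q) (hi ▸ hk')
  have hmem : ∀ x ∈ Q, (x : Ω) ∈ img (Q.map S.subtype) k := fun x hx => by
    rw [hi]; exact mem_coe hx
  have hf'Q : ∀ x ∈ Q, f' x ∈ Q := fun x hx => coe_mem_map.1 (by
    rw [hfg' x hx]; exact (hky _ (hmem x hx)).1)
  refine ⟨f', hf', hf'Q, fun x hx => Subtype.ext ?_, fun x hx => Subtype.ext ?_⟩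
  · rw [hfg' _ (hfQ x hx), ← hkf x hx, hkk _ (mem_coe hx)]
  · rw [← hkf _ (hf'Q x hx), hfg' x hx, (hky _ (hmem x hx)).2]

/-- An automorphism of the system, read on `↥S`. -/
theorem exists_mapS {α : MulAut (Q.map S.subtype)}
    (hα : α ∈ F.autGroup (Q.map S.subtype)) :
    ∃ f, MapS F Q f ∧ (∀ x ∈ Q, f x ∈ Q) ∧
      ∀ x (hx : x ∈ Q), (f x : Ω) = ((α ⟨x, mem_coe hx⟩ : Q.map S.subtype) : Ω) := by
  obtain ⟨f, hf, hfg⟩ := mapS_of_isMap (Q := Q) (isMap_of_autGroup (map_subtype_le Q) hα)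
  have hval : ∀ x (hx : x ∈ Q), (f x : Ω) = ((α ⟨x, mem_coe hx⟩ : Q.map S.subtype) : Ω) :=
    fun x hx => by rw [hfg x hx, toFun_aut_apply α (mem_coe hx)]
  exact ⟨f, hf, fun x hx => coe_mem_map.1 ((hval x hx) ▸ (α _).2), hval⟩

/-- A map of a subgroup onto itself, as an automorphism of the system. -/
theorem exists_aut (hf : MapS F Q f) (hfQ : ∀ x ∈ Q, f x ∈ Q) :
    ∃ α ∈ F.autGroup (Q.map S.subtype),
      ∀ x (hx : x ∈ Q), ((α ⟨x, mem_coe hx⟩ : Q.map S.subtype) : Ω) = (f x : Ω) := by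
  obtain ⟨k, hk, hkf⟩ := hf
  have hi := img_eq_of_stable hk hkf hfQ
  exact ⟨hk.toAut hi, hk.toAut_mem hi, fun x hx => by rw [IsMap.toAut_apply, hkf x hx]⟩

/-- A fully normalized subgroup has the largest normalizer among its images. -/
theorem card_normalizer_le (hE : F.IsFullyNormalized (E.map S.subtype)) (hf : MapS F E f)
    {K : Subgroup S} (hK : ∀ x ∈ E, f x ∈ K) (hc : Nat.card K ≤ Nat.card E) :
    Nat.card (normalizer (K : Set S)) ≤ Nat.card (normalizer (E : Set S)) := by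
  obtain ⟨k, hk, hkf⟩ := hf
  haveI := finite_of_le (S := S) (map_subtype_le K)
  have hi : img (E.map S.subtype) k = K.map S.subtype := by
    refine CfsgLib.Fusion.eq_of_le_of_card_le (fun y hy => ?_) ?_
    · obtain ⟨_, ⟨x, hx, rfl⟩, rfl⟩ := hk.mem_img.1 hy
      exact ⟨f x, hK x hx, (hkf x hx).symm⟩
    · rw [hk.card_img, card_map_of_injective S.subtype_injective,
        card_map_of_injective S.subtype_injective]
      exact hc
  have h := hE.2 _ (hi ▸ hk.isConj)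
  rwa [normalizerIn_map, normalizerIn_map, card_map_of_injective S.subtype_injective,
    card_map_of_injective S.subtype_injective] at h

/-- A subgroup all whose conjugates in the system have normalizers no larger is fully normalized. -/
theorem fullyNormalized_of_forall (h : ∀ (f : S → S) (K : Subgroup S), MapS F Q f →
    (∀ y, y ∈ K ↔ ∃ x ∈ Q, f x = y) →
    Nat.card (normalizer (K : Set S)) ≤ Nat.card (normalizer (Q : Set S))) :
    F.IsFullyNormalized (Q.map S.subtype) := by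
  refine ⟨map_subtype_le Q, fun R' hR' => ?_⟩
  obtain ⟨k, hk, rfl⟩ := isConj_iff.1 hR'
  obtain ⟨f, hf, hfk⟩ := mapS_of_isMap hk
  set K := (img (Q.map S.subtype) k).subgroupOf S with hKdef
  have hK : K.map S.subtype = img (Q.map S.subtype) k :=
    map_subgroupOf_eq_of_le hk.img_le
  have h1 := h f K hf fun y => by
    rw [hKdef, mem_subgroupOf, hk.mem_img]
    constructor
    · rintro ⟨_, ⟨x, hx, rfl⟩, hxy⟩
      exact ⟨x, hx, Subtype.ext ((hfk x hx).trans hxy)⟩
    · rintro ⟨x, hx, rfl⟩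
      exact ⟨x, mem_coe hx, (hfk x hx).symm⟩
  rw [← hK, normalizerIn_map, normalizerIn_map, card_map_of_injective S.subtype_injective,
    card_map_of_injective S.subtype_injective]
  exact h1

/-- Essential subgroups are fully normalized. -/
theorem fullyNormalized_of_essential (hE : F.IsEssential p (E.map S.subtype)) :
    F.IsFullyNormalized (E.map S.subtype) := hE.2.1

theorem centralizer_le_of_essential (hE : F.IsEssential p (E.map S.subtype)) :
    centralizer (E : Set S) ≤ E := fun x hx => by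
  refine coe_mem_map.1 (hE.1.2 _ (isConj_refl hE.1.1) ⟨x.2, ?_⟩)
  rintro _ ⟨y, hy, rfl⟩
  simpa using congrArg Subtype.val (mem_centralizer_iff.1 hx y hy)

/-- Centralizers in `S` of images of a centric subgroup lie in them. -/
theorem centralizer_img_le (hE : F.IsCentric (E.map S.subtype)) (hf : MapS F E f)
    {K : Subgroup S} (hK : ∀ y, y ∈ K ↔ ∃ x ∈ E, f x = y) :
    centralizer (K : Set S) ≤ K := by
  intro a ha
  obtain ⟨k, hk, hkf⟩ := hf
  have hi : img (E.map S.subtype) k = K.map S.subtype := by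
    ext z
    rw [hk.mem_img]
    constructor
    · rintro ⟨_, ⟨x, hx, rfl⟩, rfl⟩
      exact ⟨f x, (hK _).2 ⟨x, hx, rfl⟩, (hkf x hx).symm⟩
    · rintro ⟨y, hy, rfl⟩
      obtain ⟨x, hx, rfl⟩ := (hK y).1 hy
      exact ⟨x, mem_coe hx, hkf x hx⟩
  refine coe_mem_map.1 (hE.2 _ (hi ▸ hk.isConj) ⟨a.2, ?_⟩)
  rintro _ ⟨y, hy, rfl⟩
  simpa using congrArg Subtype.val (mem_centralizer_iff.1 ha y hy)

section Extend

variable [hp : Fact p.Prime] (hS : IsPGroup p S) (hF : F.IsSaturated p)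
include hS hF

/-- The automorphisms in the system of a fully normalized subgroup that act trivially on a series
on which its normalizer acts trivially are induced by the normalizer. -/
theorem conj_of_stabilizes (hQ : F.IsFullyNormalized (Q.map S.subtype)) (n : ℕ)
    (C : ℕ → Subgroup S) (h0 : C 0 = ⊥) (hn : Q ≤ C n) (hmono : ∀ i < n, C i ≤ C (i + 1))
    (hact : ∀ a ∈ normalizer (Q : Set S), ∀ i < n, ∀ x ∈ Q, x ∈ C (i + 1) →
      x⁻¹ * (a * x * a⁻¹) ∈ C i)
    (hf : MapS F Q f) (hfQ : ∀ x ∈ Q, f x ∈ Q)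
    (hfst : ∀ i < n, ∀ x ∈ Q, x ∈ C (i + 1) → x⁻¹ * f x ∈ C i) :
    ∃ a ∈ normalizer (Q : Set S), ∀ x ∈ Q, f x = a * x * a⁻¹ := by
  classical
  set Q' : Subgroup Ω := Q.map S.subtype with hQ'
  have hQS : Q' ≤ S := map_subtype_le Q
  haveI := finite_of_le hQS
  -- elements of `Q'` read in `↥S`
  let rd : Q' → S := fun x => ⟨x, hQS x.2⟩
  have hrd : ∀ x, rd x ∈ Q := fun x => coe_mem_map.1 x.2
  let M : Submonoid (MulAut Q') :=
    { carrier := {α | α ∈ F.autGroup Q' ∧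
        ∀ i < n, ∀ x : Q', rd x ∈ C (i + 1) → (rd x)⁻¹ * rd (α x) ∈ C i}
      one_mem' := ⟨one_mem _, fun i _ x _ => by simp⟩
      mul_mem' := fun {α β} hα hβ => ⟨mul_mem hα.1 hβ.1, fun i hi x hx => by
        have h1 := hβ.2 i hi x hx
        have h2 : rd (β x) ∈ C (i + 1) := by
          have := mul_mem hx (hmono i hi h1)
          rwa [mul_inv_cancel_left] at this
        have h3 := mul_mem h1 (hα.2 i hi (β x) h2)
        simpa [MulAut.mul_apply, mul_assoc] using h3⟩ }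
  let K : Subgroup (MulAut Q') :=
    { M with
      inv_mem' := fun {α} hα => by
        have h1 : α⁻¹ = α ^ (orderOf α - 1) := by
          refine inv_eq_of_mul_eq_one_right ?_
          rw [← pow_succ', Nat.sub_add_cancel (orderOf_pos α), pow_orderOf_eq_one]
        rw [h1]
        exact M.pow_mem hα _ }
  obtain ⟨e, he⟩ := hS.exists_card_eq
  have hKp : IsPGroup p K := by
    rintro ⟨γ, hγ⟩
    have hstep : ∀ i ≤ n, ∃ m, ∀ x : Q', rd x ∈ C i → (γ ^ p ^ m) x = x := by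
      intro i hi
      induction i with
      | zero =>
        refine ⟨0, fun x hx => ?_⟩
        rw [h0, mem_bot] at hx
        rw [show x = 1 from Subtype.ext (congrArg (fun y : S => (y : Ω)) hx), _root_.map_one]
      | succ i ih =>
        obtain ⟨m, hm⟩ := ih (by omega)
        refine ⟨m + e, fun x hx => ?_⟩
        set β := γ ^ p ^ m with hβ
        have hb : β ∈ K := K.pow_mem hγ _
        have hz : rd (x⁻¹ * β x) ∈ C i := hb.2 i (by omega) x hx
        have h1 := pow_apply_of_fixed (β := β) (x := x) (z := x⁻¹ * β x) (by simp) (hm _ hz)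
          (p ^ e)
        have h2 : (x⁻¹ * β x) ^ p ^ e = 1 := Subtype.ext (by
          have := congrArg Subtype.val (pow_card_eq_one' (x := rd (x⁻¹ * β x)))
          rw [he] at this
          simpa [rd] using this)
        rw [h2, mul_one] at h1
        rw [pow_add, pow_mul]
        exact h1
    obtain ⟨m, hm⟩ := hstep n le_rfl
    exact ⟨m, Subtype.ext (MulEquiv.ext fun x => hm x (hn (hrd x)))⟩
  have hind : autInducedBy S Q' ≤ K := fun α hα => by
    obtain ⟨a, ha, hax⟩ := mem_autInducedBy_iff.1 hα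
    refine ⟨autInducedBy_le_autGroup hQS hα, fun i hi x hx => ?_⟩
    have haN : (⟨a, ha⟩ : S) ∈ normalizer (Q : Set S) := mem_normalizer_fintype fun y hy =>
      coe_mem_map.1 (by
        have h1 := hax ⟨y, mem_coe hy⟩
        simp only [coe_mul, coe_inv]
        exact h1 ▸ (α _).2)
    rw [show rd (α x) = ⟨a, ha⟩ * rd x * (⟨a, ha⟩ : S)⁻¹ from Subtype.ext (hax x)]
    exact hact _ haN i hi _ (hrd x) hx
  obtain ⟨β, -, hβ⟩ := exists_conj_le_autInducedBy (fullyAutomized_of_fullyNormalized hS hF hQ) K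
    hKp fun α hα => hα.1
  have heq : autInducedBy S Q' = K := by
    refine Subgroup.eq_of_le_of_card_ge hind ?_
    rw [← card_map_of_injective (K := K) (f := (MulAut.conj β).toMonoidHom)
      (MulAut.conj β).injective]
    refine Subgroup.card_le_of_le ?_
    rintro _ ⟨κ, hκ, rfl⟩
    exact hβ κ hκ
  obtain ⟨α, hα, hαf⟩ := exists_aut hf hfQ
  have hαK : α ∈ K := ⟨hα, fun i hi x hx => by
    have h1 : rd (α x) = f (rd x) := Subtype.ext (hαf (rd x) (hrd x))
    rw [h1]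
    exact hfst i hi _ (hrd x) hx⟩
  rw [← heq] at hαK
  obtain ⟨a, ha, hax⟩ := mem_autInducedBy_iff.1 hαK
  refine ⟨⟨a, ha⟩, mem_normalizer_fintype fun y hy => coe_mem_map.1 ?_, fun y hy =>
    Subtype.ext ?_⟩
  · simp only [coe_mul, coe_inv]
    exact hax ⟨y, mem_coe hy⟩ ▸ (α _).2
  · simp only [coe_mul, coe_inv]
    rw [← hαf y hy]
    exact hax ⟨y, mem_coe hy⟩

/-- A map of a fully normalized subgroup preserving a series on which the normalizer acts
trivially extends to the normalizer. -/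
theorem extend_chain (hQ : F.IsFullyNormalized (Q.map S.subtype)) (n : ℕ) (C : ℕ → Subgroup S)
    (h0 : C 0 = ⊥) (hn : Q ≤ C n) (hmono : ∀ i < n, C i ≤ C (i + 1))
    (hact : ∀ a ∈ normalizer (Q : Set S), ∀ i < n, ∀ x ∈ Q, x ∈ C (i + 1) →
      x⁻¹ * (a * x * a⁻¹) ∈ C i)
    (hf : MapS F Q f) (hfQ : ∀ x ∈ Q, f x ∈ Q)
    (hinv : ∀ i ≤ n, ∀ x ∈ Q, x ∈ C i → f x ∈ C i) :
    ∃ f', MapS F (normalizer (Q : Set S)) f' ∧
      (∀ x ∈ normalizer (Q : Set S), f' x ∈ normalizer (Q : Set S)) ∧ ∀ x ∈ Q, f' x = f x := by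
  obtain ⟨fi, hfi, hfiQ, hfif, hffi⟩ := map_inverse hf hfQ
  -- the inverse map preserves the series
  have hinv' : ∀ i ≤ n, ∀ x ∈ Q, x ∈ C i → fi x ∈ C i := fun i hi x hx hxi => by
    obtain ⟨y, hy, rfl⟩ := map_surj_of_le hf (R := Q ⊓ C i) inf_le_left
      (fun y hy => ⟨hfQ y hy.1, hinv i hi y hy.1 hy.2⟩) ⟨hx, hxi⟩
    rw [hfif y hy.1]
    exact hy.2
  have htw : ∀ a ∈ normalizer (Q : Set S),
      ∃ a' ∈ normalizer (Q : Set S), ∀ x ∈ Q, f (a * x * a⁻¹) = a' * f x * a'⁻¹ := by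
    intro a ha
    have hcQ : ∀ x ∈ Q, cj a x ∈ Q := fun x hx => (ha x).1 hx
    have h1 : MapS F Q (f ∘ (cj a ∘ fi)) :=
      map_comp (map_comp hfi (map_cj F Q a) hfiQ) hf fun x hx => hcQ _ (hfiQ x hx)
    obtain ⟨a', ha', hax⟩ := conj_of_stabilizes hS hF hQ n C h0 hn hmono hact h1
      (fun x hx => hfQ _ (hcQ _ (hfiQ x hx))) fun i hi x hx hxi => by
        have h2 := hact a ha i hi _ (hfiQ x hx) (hinv' (i + 1) hi x hx hxi)
        have hm : (fi x)⁻¹ * (a * fi x * a⁻¹) ∈ Q :=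
          mul_mem (inv_mem (hfiQ x hx)) (hcQ _ (hfiQ x hx))
        have h3 := hinv i hi.le _ hm h2
        rw [map_mul hf (inv_mem (hfiQ x hx))
          (show a * fi x * a⁻¹ ∈ Q from hcQ _ (hfiQ x hx)), map_inv hf (hfiQ x hx),
          hffi x hx] at h3
        exact h3
    refine ⟨a', ha', fun x hx => ?_⟩
    have h2 := hax (f x) (hfQ x hx)
    simp only [Function.comp_apply, cj_apply] at h2
    rwa [hfif x hx] at h2
  obtain ⟨k, hk, hkf⟩ := hf
  haveI := finite_of_le (S := S) (map_subtype_le Q)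
  obtain ⟨k', hk', hk'x⟩ := receptive_extend (receptive_of_fullyNormalized hS hF hQ) hk
    (img_eq_of_stable hk hkf hfQ) (R := (normalizer (Q : Set S)).map S.subtype)
    (Subgroup.map_mono le_normalizer) (by
      rintro _ ⟨a, ha, rfl⟩
      haveI : Finite (Q.map S.subtype : Set Ω) :=
        inferInstanceAs (Finite (Q.map S.subtype : Subgroup Ω))
      refine ⟨a.2, mem_normalizer_fintype ?_, ?_⟩
      · rintro _ ⟨x, hx, rfl⟩
        exact ⟨a * x * a⁻¹, (ha x).1 hx, rfl⟩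
      · obtain ⟨b, -, hb⟩ := htw a ha
        refine ⟨b, b.2, ?_⟩
        rintro _ ⟨x, hx, rfl⟩
        have h1 := hkf _ ((ha x).1 hx)
        simp only [coe_mul, coe_inv, coe_subtype] at h1 ⊢
        rw [h1, hkf x hx, hb x hx]
        simp)
  obtain ⟨f', hf', hf'k⟩ := mapS_of_isMap hk'
  have hagree : ∀ x ∈ Q, f' x = f x := fun x hx => Subtype.ext (by
    rw [hf'k x (le_normalizer hx), hk'x _ (mem_coe hx), hkf x hx])
  refine ⟨f', hf', fun a ha => mem_normalizer_fintype fun y hy => ?_, hagree⟩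
  obtain ⟨x, hx, rfl⟩ := map_surj ⟨k, hk, hkf⟩ hfQ hy
  have hax : a * x * a⁻¹ ∈ Q := (ha x).1 hx
  rw [← hagree x hx, ← map_conj hf' ha (le_normalizer hx), hagree _ hax]
  exact hfQ _ hax

/-- A map of a normal subgroup preserving a series on which `S` acts trivially extends to `S`. -/
theorem extend_top (hQn : Q.Normal) (n : ℕ) (C : ℕ → Subgroup S) (h0 : C 0 = ⊥) (hn : Q ≤ C n)
    (hmono : ∀ i < n, C i ≤ C (i + 1))
    (hact : ∀ a : S, ∀ i < n, ∀ x ∈ Q, x ∈ C (i + 1) → x⁻¹ * (a * x * a⁻¹) ∈ C i)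
    (hf : MapS F Q f) (hfQ : ∀ x ∈ Q, f x ∈ Q)
    (hinv : ∀ i ≤ n, ∀ x ∈ Q, x ∈ C i → f x ∈ C i) :
    ∃ f', MapS F ⊤ f' ∧ ∀ x ∈ Q, f' x = f x := by
  haveI := hQn
  obtain ⟨f', hf', -, hff⟩ := extend_chain hS hF (fullyNormalized_normal F hQn) n C h0 hn hmono
    (fun a _ => hact a) hf hfQ hinv
  rw [normalizer_eq_top] at hf'
  exact ⟨f', hf', hff⟩

/-- Elementary abelian essential subgroups of order `p ^ 3` with a transvection in the normalizer
have a torus. -/
theorem cube_torus (hE : F.IsEssential p (E.map S.subtype))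
    (hel : Cfsg.IsElementaryAbelian p (E.map S.subtype)) (hcard : Nat.card E = p ^ 3)
    {c : S} (hc : c ∈ normalizer (E : Set S)) (hcE : c ∉ E) {L : Subgroup S}
    (hL : Nat.card L = p) (hLE : L ≤ E) (hcL : ∀ x ∈ E, c * x * c⁻¹ * x⁻¹ ∈ L) :
    Nat.card (normalizer (E : Set S)) = p ^ 4 ∧ ∃ l h e : S, l ∈ E ∧ h ∈ E ∧ e ∈ E ∧ l ≠ 1 ∧
      c * l * c⁻¹ = l ∧ c * h * c⁻¹ = h ∧ c * e * c⁻¹ = l * e ∧
      (∀ i j k : ℕ, l ^ i * h ^ j * e ^ k = 1 → p ∣ i ∧ p ∣ j ∧ p ∣ k) ∧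
      (∀ x ∈ E, ∃ i j k : ℕ, x = l ^ i * h ^ j * e ^ k) ∧
      ∀ a a' : ℕ, ((a : ZMod p) * (a' : ZMod p)) = 1 → ∃ θ, MapS F E θ ∧
        (∀ x ∈ E, θ x ∈ E) ∧ θ l = l ^ a ∧ θ h = h ∧ θ e = e ^ a' := by
  have hcardE : Nat.card (E.map S.subtype) = p ^ 3 := by
    rw [card_map_of_injective S.subtype_injective, hcard]
  obtain ⟨hN, l, h, e, hl, hh, he, hl1, hcl, hch, hce, hind, hspan, htor⟩ :=
    CfsgLib.Fusion.EssentialCube.exists_torus hS hF hE hel hcardE (c := (c : Ω))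
      (by rw [normalizerIn_map]; exact mem_map_of_mem S.subtype hc)
      (fun h => hcE (coe_mem_map.1 h)) (L := L.map S.subtype)
      (by rw [card_map_of_injective S.subtype_injective, hL]) (Subgroup.map_mono hLE)
      (by
        rintro _ ⟨x, hx, rfl⟩
        exact ⟨_, hcL x hx, by simp⟩)
  obtain ⟨l, hl, rfl⟩ := hl
  obtain ⟨h, hh, rfl⟩ := hh
  obtain ⟨e, he, rfl⟩ := he
  refine ⟨?_, l, h, e, hl, hh, he, fun h1 => hl1 (by simp [h1]),
    Subtype.ext (by simpa using hcl), Subtype.ext (by simpa using hch),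
    Subtype.ext (by simpa using hce),
    fun i j k hijk => hind i j k (by simpa using congrArg Subtype.val hijk), fun x hx => ?_,
    fun a a' haa => ?_⟩
  · rw [← card_map_of_injective (K := normalizer (E : Set S)) S.subtype_injective,
      ← normalizerIn_map, hN]
  · obtain ⟨i, j, k, hijk⟩ := hspan _ (mem_map_of_mem S.subtype hx)
    exact ⟨i, j, k, Subtype.ext (by simpa using hijk)⟩
  · obtain ⟨θ, hθ, hθx⟩ := htor a a' haa
    obtain ⟨f, hf, hfE, hfg⟩ := exists_mapS hθ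
    obtain ⟨t1, t2, t3⟩ := hθx (mem_coe hl) (mem_coe hh) (mem_coe he)
    exact ⟨f, hf, hfE, Subtype.ext (by rw [hfg l hl]; simpa using t1),
      Subtype.ext (by rw [hfg h hh]; simpa using t2),
      Subtype.ext (by rw [hfg e he]; simpa using t3)⟩

end Extend

/-- A natural number inverting `2` modulo an odd prime. -/
theorem exists_half [hp : Fact p.Prime] (h2 : p ≠ 2) :
    ∃ a' : ℕ, ((2 : ℕ) : ZMod p) * (a' : ZMod p) = 1 := by
  refine ⟨((2 : ℕ) : ZMod p)⁻¹.val, ?_⟩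
  rw [ZMod.natCast_zmod_val]
  refine mul_inv_cancel₀ fun h => h2 ?_
  exact (Nat.prime_dvd_prime_iff_eq hp.out Nat.prime_two).1 ((ZMod.natCast_eq_zero_iff _ _).1 h)

end CfsgLib.Fusion.OrderPFive
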