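import Cfsg.Agent.Lib.Coprime.MaxClassUniform
import Mathlib.GroupTheory.Commutator.Basic

/-!
Groups of order `p⁵` and maximal class with a self-centralizing element outside the centralizer of the
third term: the basic commutator structure.
-/

set_option autoImplicit false
set_option linter.style.haveILetI false
set_option linter.unusedSectionVars false

namespace CfsgLib.Fusion.OrderPFive.PearlGroup

open Subgroup CfsgLib.Coprime.MaxClassUniform
open scoped commutatorElement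

universe u

theorem comm_pow_pow {Q : Type*} [Group Q] {a b : Q} (ha : Commute ⁅a, b⁆ a) (hb : Commute ⁅a, b⁆ b) (i j : ℕ) :
    ⁅a ^ i, b ^ j⁆ = ⁅a, b⁆ ^ (i * j) := by
  have e1 : a * b = ⁅a, b⁆ * b * a := by simp [commutatorElement_def, mul_assoc]
  have e2 : ∀ j : ℕ, a * b ^ j = ⁅a, b⁆ ^ j * b ^ j * a := by
    intro j
    induction j with
    | zero => simp
    | succ j ih =>
      calc a * b ^ (j + 1) = a * b ^ j * b := by rw [pow_succ, mul_assoc]
        _ = ⁅a, b⁆ ^ j * b ^ j * (a * b) := by rw [ih, mul_assoc]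
        _ = ⁅a, b⁆ ^ j * (b ^ j * ⁅a, b⁆) * b * a := by rw [e1]; group
        _ = ⁅a, b⁆ ^ j * (⁅a, b⁆ * b ^ j) * b * a := by rw [(hb.pow_right j).eq]
        _ = _ := by rw [pow_succ, pow_succ]; group
  have e3 : ∀ i : ℕ, a ^ i * b ^ j = ⁅a, b⁆ ^ (i * j) * b ^ j * a ^ i := by
    intro i
    induction i with
    | zero => simp
    | succ i ih =>
      calc a ^ (i + 1) * b ^ j = a * (a ^ i * b ^ j) := by rw [pow_succ', mul_assoc]
        _ = a * ⁅a, b⁆ ^ (i * j) * (b ^ j * a ^ i) := by rw [ih]; group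
        _ = ⁅a, b⁆ ^ (i * j) * (a * b ^ j) * a ^ i := by rw [← (ha.pow_left (i * j)).eq]; group
        _ = _ := by
          rw [e2 j, Nat.succ_mul, pow_add, pow_succ' a i]
          group
  rw [commutatorElement_def, e3 i]
  group

theorem comm_mul_mul {Q : Type*} [Group Q] {a b k g : Q} (hab : Commute ⁅a, b⁆ a) (hb : Commute ⁅a, b⁆ b)
    (i j : ℕ) (hk : Commute k (b ^ j)) (hg : Commute g (a ^ i * k)) :
    ⁅a ^ i * k, b ^ j * g⁆ = ⁅a, b⁆ ^ (i * j) := by
  rw [← comm_pow_pow hab hb]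
  simp only [commutatorElement_def, mul_inv_rev]
  calc a ^ i * k * (b ^ j * g) * (k⁻¹ * (a ^ i)⁻¹) * (g⁻¹ * (b ^ j)⁻¹)
      = a ^ i * k * b ^ j * (g * (a ^ i * k)⁻¹) * g⁻¹ * (b ^ j)⁻¹ := by group
    _ = a ^ i * (k * b ^ j) * k⁻¹ * (a ^ i)⁻¹ * (b ^ j)⁻¹ := by rw [hg.inv_right.eq]; group
    _ = _ := by rw [hk.eq]; group

variable {p : ℕ} [hp : Fact p.Prime] {X : Type u} [Group X] [Finite X] (h : IsMC p 5 X)

include h

theorem card_one : Nat.card (LC X 1) = p ^ 3 := h.card_LC le_rfl (by omega)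

theorem card_two : Nat.card (LC X 2) = p ^ 2 := h.card_LC (by omega) (by omega)

theorem card_three : Nat.card (LC X 3) = p := by rw [h.card_LC (by omega) (by omega), pow_one]

theorem four_eq_bot : LC X 4 = ⊥ := h.LC_eq_bot le_rfl

theorem center_eq : center X = LC X 3 := h.center_eq

theorem mem_center_of_three {a : X} (ha : a ∈ LC X 3) (b : X) : a * b = b * a :=
  ((mem_center_iff.1 ((center_eq h).ge ha)) b).symm

theorem comm_eq_one {i j : ℕ} (hij : 3 ≤ i + j) {a b : X} (ha : a ∈ LC X i) (hb : b ∈ LC X j) : ⁅a, b⁆ = 1 :=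
  Subgroup.mem_bot.1 ((four_eq_bot h).le (comm_LC ha hb (by omega)))

/-- The derived subgroup is abelian. -/
theorem commute_one {a b : X} (ha : a ∈ LC X 1) (hb : b ∈ LC X 1) : a * b = b * a := by
  obtain ⟨u, hu, hu'⟩ := h.exists_mem_not_mem le_rfl (by omega : 1 + 2 ≤ 5)
  have hgen := h.LC_gen le_rfl hu hu'
  have hcen : ∀ {c d : X}, c ∈ LC X 2 → d ∈ LC X 1 → Commute c d := fun hc hd =>
    commutatorElement_eq_one_iff_commute.1 (comm_eq_one h (by omega) hc hd)
  obtain ⟨a₁, ha₁, a₂, ha₂, rfl⟩ := mem_sup_of_normal_right.1 (hgen ha)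
  obtain ⟨b₁, hb₁, b₂, hb₂, rfl⟩ := mem_sup_of_normal_right.1 (hgen hb)
  obtain ⟨i, rfl⟩ := mem_zpowers_iff.1 ha₁
  obtain ⟨j, rfl⟩ := mem_zpowers_iff.1 hb₁
  refine (Commute.mul_left ?_ (hcen ha₂ hb)).eq
  exact ((Commute.refl u).zpow_zpow i j).mul_right (hcen hb₂ ((LC X 1).zpow_mem hu i)).symm

/-- The centralizer of the third term. -/
theorem cent_index : (centralizer (LC X 2 : Set X)).index = p := by
  have hne : centralizer (LC X 2 : Set X) ≠ ⊤ := fun e => by
    have hle : LC X 2 ≤ center X := fun a ha => mem_center_iff.2 fun b =>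
      (mem_centralizer_iff.1 (e.ge (mem_top b)) a ha).symm
    have h2 := Subgroup.card_le_of_le hle
    rw [card_two h, h.card_center, show p ^ 2 = p * p from sq p] at h2
    exact absurd h2 (not_le.2 (lt_mul_of_one_lt_left hp.out.pos hp.out.one_lt))
  -- the two-step centralizer lies in it
  have hle : TC X 1 ≤ centralizer (LC X 2 : Set X) := by
    have h1 : ⁅LC X 1, TC X 1⁆ ≤ LC X 3 := by
      rw [commutator_le]
      intro a ha g hg
      rw [← commutatorElement_inv]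
      exact inv_mem (mem_TC_iff.1 hg a ha)
    have h3 : ∀ {c : X}, c ∈ LC X 3 → ∀ d : X, ⁅c, d⁆ = 1 := fun hc d =>
      commutatorElement_eq_one_iff_mul_comm.2 (mem_center_of_three h hc d)
    have e1 : ⁅⁅(⊤ : Subgroup X), TC X 1⁆, LC X 1⁆ = ⊥ := by
      rw [eq_bot_iff, commutator_le]
      intro a ha b hb
      have ha' : a ∈ LC X 1 := by
        show a ∈ ⁅(⊤ : Subgroup X).lowerCentralSeries 0, (⊤ : Subgroup X)⁆
        exact commutator_mono (le_refl _) le_top ha
      exact mem_bot.2 (commutatorElement_eq_one_iff_mul_comm.2 (commute_one h ha' hb))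
    have e2 : ⁅⁅TC X 1, LC X 1⁆, (⊤ : Subgroup X)⁆ = ⊥ := by
      rw [eq_bot_iff, commutator_le]
      intro a ha b _
      exact mem_bot.2 (h3 ((commutator_comm_le _ _).trans h1 ha) b)
    have e3 : ⁅⁅LC X 1, (⊤ : Subgroup X)⁆, TC X 1⁆ = ⊥ := commutator_commutator_eq_bot_of_rotate e1 e2
    intro g hg
    rw [mem_centralizer_iff]
    intro a ha
    exact commutatorElement_eq_one_iff_mul_comm.1
      (mem_bot.1 (e3.le (commutator_mem_commutator ha hg)))
  have hi : (TC X 1).index = p := h.TC_index le_rfl (by omega)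
  rcases (Nat.dvd_prime hp.out).1 (hi ▸ index_dvd_of_le hle) with h1 | h1
  · exact absurd (index_eq_one.1 h1) hne
  · exact h1

theorem cent_eq_TC : centralizer (LC X 2 : Set X) = TC X 1 := by
  have hi : (TC X 1).index = p := h.TC_index le_rfl (by omega)
  have hc := cent_index h
  obtain ⟨u, hu, hu'⟩ := h.exists_mem_not_mem le_rfl (by omega : 1 + 2 ≤ 5)
  refine (eq_of_le_of_card_ge ?_ ?_)
  swap
  · have e1 := (TC X 1).card_mul_index
    have e2 := (centralizer (LC X 2 : Set X)).card_mul_index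
    rw [hi] at e1
    rw [hc, ← e1] at e2
    exact (Nat.eq_of_mul_eq_mul_right hp.out.pos e2).ge
  · intro g hg
    rw [mem_TC_iff]
    intro a ha
    -- `⁅g, a⁆` lies in the second term and commutes with everything
    by_contra hna
    have h2 : ⁅g, a⁆ ∈ LC X 2 := comm_LC_right g ha
    have ha' : a ∉ LC X 2 := fun e => hna (by
      rw [show ⁅g, a⁆ = 1 from commutatorElement_eq_one_iff_mul_comm.2 (mem_centralizer_iff.1 hg a e).symm]
      exact one_mem _)
    -- `LC 2 = ⟨⁅g, a⁆⟩ LC 3`; apply the Hall–Witt identity to a third element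
    have hX : ∀ t : X, ⁅⁅g, a⁆, t⁆ = 1 := by
      intro t
      have e1 : ⁅⁅(LC X 1), (⊤ : Subgroup X)⁆, centralizer (LC X 2 : Set X)⁆ = ⊥ := by
        rw [eq_bot_iff, commutator_le]
        intro c hc b hb
        exact mem_bot.2 (commutatorElement_eq_one_iff_mul_comm.2 (mem_centralizer_iff.1 hb c hc))
      have e2 : ⁅⁅(⊤ : Subgroup X), centralizer (LC X 2 : Set X)⁆, LC X 1⁆ = ⊥ := by
        rw [eq_bot_iff, commutator_le]
        intro c hc b hb
        have hc' : c ∈ LC X 1 := commutator_mono (le_refl _) le_top hc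
        exact mem_bot.2 (commutatorElement_eq_one_iff_mul_comm.2 (commute_one h hc' hb))
      have e3 : ⁅⁅centralizer (LC X 2 : Set X), LC X 1⁆, (⊤ : Subgroup X)⁆ = ⊥ :=
        commutator_commutator_eq_bot_of_rotate e1 e2
      exact mem_bot.1 (e3.le (commutator_mem_commutator (commutator_mem_commutator hg ha) (mem_top t)))
    refine hna ((center_eq h).le (mem_center_iff.2 fun t => ?_))
    exact (commutatorElement_eq_one_iff_mul_comm.1 (hX t)).symm

theorem cent_normal : (centralizer (LC X 2 : Set X)).Normal := inferInstance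

theorem one_le_cent : LC X 1 ≤ centralizer (LC X 2 : Set X) := (cent_eq_TC h).symm ▸ LC_one_le_TC 1

theorem comm_cent_one {g a : X} (hg : g ∈ centralizer (LC X 2 : Set X)) (ha : a ∈ LC X 1) :
    ⁅g, a⁆ ∈ LC X 3 :=
  mem_TC_iff.1 ((cent_eq_TC h).le hg) a ha

/-- A noncentral element of a self-centralizing subgroup of order `p²`. -/
theorem notMem_cent {A : Subgroup X} (hA : Nat.card A = p ^ 2) (hC : centralizer (A : Set X) = A) {x : X}
    (hx : x ∈ A) (hxZ : x ∉ center X) : x ∉ centralizer (LC X 2 : Set X) := by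
  intro hx2
  haveI : IsMulCommutative A := IsPGroup.isMulCommutative_of_card_eq_prime_sq hA
  have hZA : center X ≤ A := hC ▸ center_le_centralizer _
  have hsup : A = center X ⊔ zpowers x := by
    refine (eq_of_le_of_card_ge (sup_le hZA (zpowers_le.2 hx)) ?_).symm
    obtain ⟨b, hb⟩ := (h.isPGroup.to_subgroup (center X ⊔ zpowers x)).exists_card_eq
    have hlt : Nat.card (center X) < Nat.card (center X ⊔ zpowers x : Subgroup X) := by
      refine lt_of_le_of_ne (card_le_of_le le_sup_left) fun e => hxZ ?_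
      rw [eq_of_le_of_card_ge (le_sup_left : center X ≤ center X ⊔ zpowers x) e.ge]
      exact mem_sup_right (mem_zpowers x)
    rw [hb, h.card_center] at hlt
    rw [hA, hb]
    refine Nat.pow_le_pow_right hp.out.pos ?_
    by_contra hb2
    have : p ^ b ≤ p ^ 1 := Nat.pow_le_pow_right hp.out.pos (by omega)
    rw [pow_one] at this
    omega
  have hle : LC X 2 ≤ A := by
    intro a ha
    rw [← hC, hsup, mem_centralizer_iff]
    intro b hb
    obtain ⟨c, hc, d, hd, rfl⟩ := mem_sup_of_normal_left.1 hb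
    obtain ⟨i, rfl⟩ := mem_zpowers_iff.1 hd
    exact (Commute.mul_left ((mem_center_iff.1 hc a).symm)
      (Commute.zpow_left (show Commute x a from (mem_centralizer_iff.1 hx2 a ha).symm) i)).eq
  have heq : LC X 2 = A := eq_of_le_of_card_ge hle (by rw [hA, card_two h])
  have hle1 : LC X 1 ≤ A := fun a ha => hC ▸ (mem_centralizer_iff.2 fun b hb =>
    commute_one h (LC_le (by omega : 1 ≤ 2) (heq.ge hb)) ha)
  have h3 := card_le_of_le hle1
  rw [hA, card_one h, Nat.pow_le_pow_iff_right hp.out.one_lt] at h3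
  omega

theorem inf_cent {A : Subgroup X} (hA : Nat.card A = p ^ 2) (hC : centralizer (A : Set X) = A) :
    A ⊓ centralizer (LC X 2 : Set X) = center X := by
  refine le_antisymm (fun a ha => ?_) (le_inf (hC ▸ center_le_centralizer _) (center_le_centralizer _))
  by_contra hn
  exact notMem_cent h hA hC ha.1 hn ha.2

theorem lc_zero : LC X 0 = ⊤ := rfl

theorem commute_mk {i : ℕ} {a b : X} (hab : ⁅a, b⁆ ∈ LC X i) :
    Commute (a : X ⧸ LC X i) (b : X ⧸ LC X i) := by
  rw [← commutatorElement_eq_one_iff_commute]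
  exact (QuotientGroup.eq_one_iff _).2 hab

theorem mul_mk_eq {i n : ℕ} {u y : X} (hy : (y : X ⧸ LC X i) = (u : X ⧸ LC X i) ^ n) :
    ∃ g ∈ LC X i, y = u ^ n * g := by
  refine ⟨(u ^ n)⁻¹ * y, QuotientGroup.eq.1 ?_, (mul_inv_cancel_left _ _).symm⟩
  rw [QuotientGroup.mk_pow, hy]

/-- The commutators of an element outside the centralizer of the third term with one inside it. -/
theorem chain {x s : X} (hx : x ∉ centralizer (LC X 2 : Set X))
    (hs : s ∈ centralizer (LC X 2 : Set X)) (hs' : s ∉ LC X 1) :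
    ⁅x, s⁆ ∈ LC X 1 ∧ ⁅x, s⁆ ∉ LC X 2 ∧ ⁅x, ⁅x, s⁆⁆ ∈ LC X 2 ∧ ⁅x, ⁅x, s⁆⁆ ∉ LC X 3 ∧
      ⁅x, ⁅x, ⁅x, s⁆⁆⁆ ∈ LC X 3 ∧ ⁅x, ⁅x, ⁅x, s⁆⁆⁆ ≠ 1 := by
  have hx1 : x ∉ LC X 1 := fun e => hx (one_le_cent h e)
  have h1 : ⁅x, s⁆ ∈ LC X 1 := comm_LC (lc_zero h ▸ mem_top x) (lc_zero h ▸ mem_top s) (by omega)
  have h1' : ⁅x, s⁆ ∉ LC X 2 := by
    intro e
    have hst : s ∉ LC X 1 ⊔ zpowers x := fun hm => by
      obtain ⟨a, ha, b, hb, hab⟩ := mem_sup_of_normal_left.1 hm
      obtain ⟨i, rfl⟩ := mem_zpowers_iff.1 hb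
      have : x ^ i ∈ centralizer (LC X 2 : Set X) := by
        rw [← inv_mul_cancel_left a (x ^ i), hab]
        exact mul_mem (inv_mem (one_le_cent h ha)) hs
      have hi : (p : ℤ) ∣ i := by
        by_contra hi
        refine hx ?_
        have hp' : x ^ (p : ℤ) ∈ centralizer (LC X 2 : Set X) := by
          rw [zpow_natCast]; exact one_le_cent h (h.pow_mem_LC_one x)
        obtain ⟨u, v, huv⟩ : IsCoprime (p : ℤ) i := Int.isCoprime_iff_nat_coprime.2
          (by simpa using hp.out.coprime_iff_not_dvd.2 (fun hd => hi (Int.natCast_dvd.2 hd)))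
        rw [← zpow_one x, ← huv, zpow_add, mul_comm u, mul_comm v, zpow_mul, zpow_mul]
        exact mul_mem (zpow_mem hp' _) (zpow_mem this _)
      obtain ⟨j, rfl⟩ := hi
      refine hs' ?_
      rw [← hab, zpow_mul, zpow_natCast]
      exact mul_mem ha (zpow_mem (h.pow_mem_LC_one x) _)
    have htop : closure ({x, s} : Set X) = ⊤ :=
      h.eq_top_of_gen' hx1 (by rwa [sup_comm]) (subset_closure (by simp)) (subset_closure (by simp))
    have hle : LC X 1 ≤ LC X 2 := by
      have h2 : ⁅closure ({x, s} : Set X), closure ({x, s} : Set X)⁆ ≤ LC X 2 :=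
        commutator_closure_le fun a ha b hb => by
          simp only [Set.mem_insert_iff, Set.mem_singleton_iff] at ha hb
          rcases ha with rfl | rfl <;> rcases hb with rfl | rfl
          · rw [commutatorElement_self]; exact one_mem _
          · exact e
          · rw [← commutatorElement_inv]; exact inv_mem e
          · rw [commutatorElement_self]; exact one_mem _
      rwa [htop] at h2
    have h3 := card_le_of_le hle
    rw [card_one h, card_two h, Nat.pow_le_pow_iff_right hp.out.one_lt] at h3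
    omega
  have hxT : x ∉ TC X 1 := cent_eq_TC h ▸ hx
  have h2 : ⁅x, ⁅x, s⁆⁆ ∈ LC X 2 := comm_LC_right x h1
  have h2' : ⁅x, ⁅x, s⁆⁆ ∉ LC X 3 := h.comm_not_mem le_rfl hxT h1 h1'
  refine ⟨h1, h1', h2, h2', comm_LC_right x h2, fun e => hx (mem_centralizer_iff.2 fun a ha => ?_)⟩
  obtain ⟨b, hb, c, hc, rfl⟩ := mem_sup_of_normal_right.1 (h.LC_gen (by omega) h2 h2' ha)
  obtain ⟨i, rfl⟩ := mem_zpowers_iff.1 hb
  exact (Commute.mul_left ((commutatorElement_eq_one_iff_commute.1 e).symm.zpow_left i)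
    (mem_center_of_three h hc x)).eq

theorem cent_gen {s : X} (hs : s ∈ centralizer (LC X 2 : Set X)) (hs' : s ∉ LC X 1) :
    centralizer (LC X 2 : Set X) = zpowers s ⊔ LC X 1 := by
  have hle : zpowers s ⊔ LC X 1 ≤ centralizer (LC X 2 : Set X) := sup_le (zpowers_le.2 hs) (one_le_cent h)
  refine (eq_of_le_of_card_ge hle ?_).symm
  have hlt : Nat.card (LC X 1) < Nat.card (zpowers s ⊔ LC X 1 : Subgroup X) := by
    refine lt_of_le_of_ne (card_le_of_le le_sup_right) fun e => hs' ?_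
    rw [eq_of_le_of_card_ge (le_sup_right : LC X 1 ≤ zpowers s ⊔ LC X 1) e.ge]
    exact mem_sup_left (mem_zpowers s)
  obtain ⟨c, hc⟩ := (h.isPGroup.to_subgroup (zpowers s ⊔ LC X 1)).exists_card_eq
  have e1 := (centralizer (LC X 2 : Set X)).card_mul_index
  rw [cent_index h, h.card_eq, pow_succ] at e1
  rw [hc, card_one h, Nat.pow_lt_pow_iff_right hp.out.one_lt] at hlt
  rw [hc, Nat.eq_of_mul_eq_mul_right hp.out.pos e1]
  exact Nat.pow_le_pow_right hp.out.pos (by omega)

theorem comm_cent_cent_ne (hnab : ¬ IsMulCommutative (centralizer (LC X 2 : Set X))) {x s : X}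
    (hx : x ∉ centralizer (LC X 2 : Set X)) (hs : s ∈ centralizer (LC X 2 : Set X)) (hs' : s ∉ LC X 1) :
    ⁅s, ⁅x, s⁆⁆ ≠ 1 := by
  intro e
  obtain ⟨h1, h1', -⟩ := chain h hx hs hs'
  have hsc : ∀ a ∈ LC X 1, Commute s a := by
    intro a ha
    obtain ⟨b, hb, c, hc, rfl⟩ := mem_sup_of_normal_right.1 (h.LC_gen le_rfl h1 h1' ha)
    obtain ⟨i, rfl⟩ := mem_zpowers_iff.1 hb
    exact ((commutatorElement_eq_one_iff_commute.1 e).zpow_right i).mul_right
      (mem_centralizer_iff.1 hs c hc).symm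
  refine hnab ⟨⟨fun a b => Subtype.ext ?_⟩⟩
  obtain ⟨a₁, ha₁, a₂, ha₂, ha⟩ := mem_sup_of_normal_right.1 ((cent_gen h hs hs').le a.2)
  obtain ⟨b₁, hb₁, b₂, hb₂, hb⟩ := mem_sup_of_normal_right.1 ((cent_gen h hs hs').le b.2)
  obtain ⟨i, rfl⟩ := mem_zpowers_iff.1 ha₁
  obtain ⟨j, rfl⟩ := mem_zpowers_iff.1 hb₁
  show (a : X) * b = b * a
  rw [← ha, ← hb]
  exact (((Commute.refl s).zpow_zpow i j).mul_right ((hsc b₂ hb₂).zpow_left i)).mul_left
    (((hsc a₂ ha₂).symm.zpow_right j).mul_right (commute_one h ha₂ hb₂))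

/-- The weights of an automorphism on the layers. -/
theorem weight (hnab : ¬ IsMulCommutative (centralizer (LC X 2 : Set X))) {x s : X}
    (hx : x ∉ centralizer (LC X 2 : Set X)) (hs : s ∈ centralizer (LC X 2 : Set X)) (hs' : s ∉ LC X 1)
    (α : MulAut X) {a b e : ℕ} {k g : X} (hk : k ∈ centralizer (LC X 2 : Set X)) (hαx : α x = x ^ a * k)
    (hg : g ∈ LC X 1) (hαs : α s = s ^ b * g) (hz : ∀ z ∈ LC X 3, α z = z ^ e) :
    (b * a ^ 3 : ZMod p) = e ∧ (b ^ 2 * a : ZMod p) = e := by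
  obtain ⟨h1, h1', h2, h2', h3, h3'⟩ := chain h hx hs hs'
  -- modulo the second term
  obtain ⟨g₂, hg₂, e2⟩ : ∃ g₂ ∈ LC X 2, α ⁅x, s⁆ = ⁅x, s⁆ ^ (a * b) * g₂ := by
    refine mul_mk_eq h ?_
    have hcen : ∀ u ∈ LC X 1, ∀ v : X, Commute (QuotientGroup.mk' (LC X 2) u) (QuotientGroup.mk' (LC X 2) v) :=
      fun u hu v => commute_mk h (comm_LC_left hu v)
    rw [map_commutatorElement, hαx, hαs]
    show QuotientGroup.mk' (LC X 2) ⁅x ^ a * k, s ^ b * g⁆ = QuotientGroup.mk' (LC X 2) ⁅x, s⁆ ^ (a * b)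
    simp only [map_commutatorElement, map_mul, map_pow]
    refine comm_mul_mul ?_ ?_ a b ?_ ?_
    · rw [← map_commutatorElement]; exact hcen _ h1 _
    · rw [← map_commutatorElement]; exact hcen _ h1 _
    · obtain ⟨c, hc, d, hd, rfl⟩ := mem_sup_of_normal_right.1 ((cent_gen h hs hs').le hk)
      obtain ⟨i, rfl⟩ := mem_zpowers_iff.1 hc
      rw [map_mul, map_zpow]
      exact Commute.mul_left (((Commute.refl _).zpow_left i).pow_right b) ((hcen d hd s).pow_right b)
    · rw [← map_pow, ← map_mul]; exact hcen g hg _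
  -- modulo the third term
  obtain ⟨g₃, hg₃, e3⟩ : ∃ g₃ ∈ LC X 3, α ⁅x, ⁅x, s⁆⁆ = ⁅x, ⁅x, s⁆⁆ ^ (a * (a * b)) * g₃ := by
    refine mul_mk_eq h ?_
    have hcen : ∀ u ∈ LC X 2, ∀ v : X, Commute (QuotientGroup.mk' (LC X 3) u) (QuotientGroup.mk' (LC X 3) v) :=
      fun u hu v => commute_mk h (comm_LC_left hu v)
    rw [map_commutatorElement, hαx, e2]
    show QuotientGroup.mk' (LC X 3) ⁅x ^ a * k, ⁅x, s⁆ ^ (a * b) * g₂⁆ =
      QuotientGroup.mk' (LC X 3) ⁅x, ⁅x, s⁆⁆ ^ (a * (a * b))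
    generalize hy : ⁅x, s⁆ = y at h2 hcen h1 ⊢
    rw [map_commutatorElement (g₁ := x ^ a * k), map_mul, map_mul, map_pow, map_pow, map_commutatorElement]
    refine comm_mul_mul ?_ ?_ a _ ?_ ?_
    · rw [← map_commutatorElement]; exact hcen _ h2 _
    · rw [← map_commutatorElement]; exact hcen _ h2 _
    · exact Commute.pow_right (commute_mk h (comm_cent_one h hk h1)) _
    · rw [← map_pow, ← map_mul]; exact hcen g₂ hg₂ _
  -- in the centre
  have e4 : α ⁅x, ⁅x, ⁅x, s⁆⁆⁆ = ⁅x, ⁅x, ⁅x, s⁆⁆⁆ ^ (a * (a * (a * b))) := by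
    rw [map_commutatorElement, hαx, e3]
    refine comm_mul_mul (mem_center_of_three h h3 x) (mem_center_of_three h h3 _) a _ ?_
      (mem_center_of_three h hg₃ _)
    exact (show Commute k ⁅x, ⁅x, s⁆⁆ from (mem_centralizer_iff.1 hk _ h2).symm).pow_right _
  have h5 : ⁅s, ⁅x, s⁆⁆ ∈ LC X 3 := comm_cent_one h hs h1
  have e5 : α ⁅s, ⁅x, s⁆⁆ = ⁅s, ⁅x, s⁆⁆ ^ (b * (a * b)) := by
    rw [map_commutatorElement, hαs, e2]
    refine comm_mul_mul (mem_center_of_three h h5 _) (mem_center_of_three h h5 _) b _ ?_ ?_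
    · exact (show Commute g ⁅x, s⁆ from commute_one h hg h1).pow_right _
    · exact Commute.mul_right ((show Commute g₂ s from mem_centralizer_iff.1 hs g₂ hg₂).pow_right b)
        (commute_one h (LC_le (by omega : 1 ≤ 2) hg₂) hg)
  have key : ∀ {z : X}, z ∈ LC X 3 → z ≠ 1 → ∀ n : ℕ, α z = z ^ n → (n : ZMod p) = e := by
    intro z hz3 hz1 n hn
    rw [hz z hz3, pow_eq_pow_iff_modEq] at hn
    have hord : orderOf z = p := orderOf_eq_prime (by
      have hd := orderOf_dvd_natCard (⟨z, hz3⟩ : LC X 3)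
      rw [card_three h, Subgroup.orderOf_mk] at hd
      exact orderOf_dvd_iff_pow_eq_one.1 hd) hz1
    rw [hord] at hn
    exact ((ZMod.natCast_eq_natCast_iff _ _ _).2 hn).symm
  refine ⟨?_, ?_⟩
  · rw [← key h3 h3' _ e4]; push_cast; ring
  · rw [← key h5 (comm_cent_cent_ne h hnab hx hs hs') _ e5]; push_cast; ring

end CfsgLib.Fusion.OrderPFive.PearlGroup
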