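import Cfsg.Agent.Lib.Fusion.OrderPFive.Kit
import Cfsg.Agent.Lib.Fusion.OrderPFive.PearlGroup
import Cfsg.Agent.Lib.Invol.PearlExponent
import Cfsg.Agent.Lib.Invol.PlanePairs

/-!
An essential subgroup of order `p²` in a saturated system on a group of order `p⁵` without an abelian
subgroup of index `p`: the prime is `3` and some element outside the derived subgroup is fixed modulo it.
-/

set_option autoImplicit false
set_option linter.style.haveILetI false
set_option linter.unusedSectionVars false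

namespace CfsgLib.Fusion.OrderPFive

open Cfsg Cfsg.FusionSystem Subgroup CfsgLib.Fusion CfsgLib.MaxClassEss CfsgLib.Coprime.MaxClassUniform
open CfsgLib.Fusion.OrderPFive.PearlGroup
open scoped commutatorElement

variable {Ω : Type*} [Group Ω] {S : Subgroup Ω} [Finite S] {F : FusionSystem S} {p : ℕ}

/-- The series `⊥ ≤ A ≤ B ≤ C ≤ ⊤`. -/
def pearlSeries {G : Type*} [Group G] (A B C : Subgroup G) : ℕ → Subgroup G
  | 0 => ⊥
  | 1 => A
  | 2 => B
  | 3 => C
  | _ => ⊤

/-- The torus of a pearl. -/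
theorem pearl_torus [hp : Fact p.Prime] (h : Hyp F p) {E : Subgroup S}
    (hE : F.IsEssential p (E.map S.subtype)) (hcard : Nat.card E = p ^ 2) (hC : centralizer (E : Set S) = E)
    (hm : IsMC p 5 S) {t : ℕ} (ht : (2 : ZMod p) * (t : ZMod p) = 1) :
    ∃ e ∈ E, e ∉ LC S 3 ∧ e ^ p = 1 ∧ ∃ θ, MapS F E θ ∧ (∀ x ∈ E, θ x ∈ E) ∧ θ e = e ^ 2 ∧
      ∀ z ∈ LC S 3, θ z = z ^ t := by
  have hS := h.pgroup
  set E' : Subgroup Ω := E.map S.subtype with hE'
  haveI := finite_of_le (S := S) (map_subtype_le E)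
  have hcard' : Nat.card E' = p ^ 2 := by rw [hE', card_map_of_injective S.subtype_injective, hcard]
  have hel := CfsgLib.Invol.EssentialSmall.card_sq hS h.sat hE hcard'
  letI : CommGroup E' := { (inferInstance : Group E') with mul_comm := hel.1.is_comm.comm }
  have hexp : ∀ x : E', x ^ p = 1 := fun x => Subtype.ext (by simpa using hel.2 (x : Ω) x.2)
  -- an element of the third term outside the centre
  obtain ⟨u, hu, hu'⟩ := hm.exists_mem_not_mem (show 1 ≤ 2 by omega) (show 2 + 2 ≤ 5 by omega)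
  have hZE : LC S 3 ≤ E := center_eq hm ▸ hC ▸ center_le_centralizer _
  have huE : u ∉ E := fun hmem => hu' (by
    rw [← center_eq hm, ← inf_cent hm hcard hC]
    exact ⟨hmem, one_le_cent hm (LC_le (by omega : 1 ≤ 2) hu)⟩)
  have hun : ∀ x ∈ E, u * x * u⁻¹ ∈ E := fun x hx => by
    have h3 : ⁅u, x⁆ ∈ E := hZE (comm_LC_left hu x)
    simpa [commutatorElement_def, mul_assoc] using mul_mem h3 hx
  have huN : (u : Ω) ∈ normalizerIn S E' := by
    rw [hE', normalizerIn_map]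
    exact mem_map_of_mem S.subtype (mem_normalizer_fintype hun)
  set f : MulAut E' := E'.normalizerMonoidHom ⟨(u : Ω), huN.2⟩ with hf
  have hfA : f ∈ autInducedBy S E' := mem_autInducedBy_iff.2 ⟨u, u.2, fun x => rfl⟩
  have hfp : ∃ k : ℕ, f ^ p ^ k = 1 := by
    obtain ⟨k, hk⟩ := isPGroup_autInducedBy hS E' ⟨f, hfA⟩
    exact ⟨k, congrArg Subtype.val hk⟩
  have hf1 : f ≠ 1 := fun e => huE (hC.le (mem_centralizer_iff.2 fun x hx => Subtype.ext (by
    have h1 := congrArg (fun α : MulAut E' => ((α ⟨x, mem_coe hx⟩ : E') : Ω)) e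
    rw [hf] at h1
    simp only [Subgroup.normalizerMonoidHom_apply_apply_coe, MulAut.one_apply] at h1
    rw [coe_mul, coe_mul]
    exact (mul_inv_eq_iff_eq_mul.1 h1).symm)))
  -- a generator of the centre
  obtain ⟨⟨z, hz⟩, hz1⟩ := (LC S 3).ne_bot_iff_exists_ne_one.1 fun e =>
    hp.out.ne_one (by rw [← card_three hm, e, Subgroup.card_bot])
  have hgen : ∀ y ∈ LC S 3, ∃ i : ℤ, y = z ^ i := fun y hy => by
    obtain ⟨i, hi⟩ := mem_zpowers_iff.1
      ((zpowers_eq_top_of_prime_card (card_three hm) hz1).ge (mem_top (⟨y, hy⟩ : LC S 3)))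
    exact ⟨i, (congrArg Subtype.val hi).symm.trans (SubgroupClass.coe_zpow _ _)⟩
  set l : E' := ⟨(z : Ω), mem_coe (hZE hz)⟩ with hl
  have hl1 : l ≠ 1 := fun e => hz1 (Subtype.ext (Subtype.ext (by simpa [hl] using congrArg Subtype.val e)))
  have hfl : f l = l := by
    refine Subtype.ext ?_
    rw [hf, Subgroup.normalizerMonoidHom_apply_apply_coe]
    have h1 := congrArg Subtype.val ((mem_center_of_three hm hz u).symm)
    rw [coe_mul, coe_mul] at h1
    exact mul_inv_eq_iff_eq_mul.2 h1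
  have hlc : Nat.card (zpowers l) = p := by
    rw [Nat.card_zpowers]; exact orderOf_eq_prime (hexp l) hl1
  obtain ⟨g, hg, w, hw, hgw⟩ :=
    CfsgLib.Invol.PearlExponent.exists_move hS h.sat hE hcard' (zpowers l) hlc
  have hmove : g l ∉ zpowers l := fun hmem => by
    obtain ⟨i, rfl⟩ := mem_zpowers_iff.1 hw
    exact hgw (by rw [_root_.map_zpow]; exact zpow_mem hmem i)
  obtain ⟨τ, hτ, hτl, hτw⟩ := CfsgLib.Invol.PlanePairs.torus_of_move hexp hcard'
    (G := F.autGroup E') (autInducedBy_le_autGroup (map_subtype_le E) hfA) hg hfp hf1 hl1 hfl hmove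
    (t := (t : ℤ)) (s := 2) (by
      rw [← ZMod.intCast_zmod_eq_zero_iff_dvd]; push_cast; rw [mul_comm]; rw [ht, sub_self])
  obtain ⟨θ, hθ, hθE, hθv⟩ := exists_mapS hτ
  set e : S := ⟨((g l : E') : Ω), map_subtype_le E (g l).2⟩ with he
  have heE : e ∈ E := coe_mem_map.1 (g l).2
  refine ⟨e, heE, fun h3 => ?_, Subtype.ext ?_, θ, hθ, hθE, Subtype.ext ?_, fun y hy => ?_⟩
  · obtain ⟨i, hi⟩ := hgen e h3
    exact hmove (mem_zpowers_iff.2 ⟨i, Subtype.ext (by
      simpa [hl, he] using (congrArg Subtype.val hi).symm)⟩)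
  · simpa [he] using congrArg Subtype.val (hexp (g l))
  · rw [hθv e heE, show (⟨(e : Ω), mem_coe heE⟩ : E') = g l from rfl, hτw]
    simp [he]
  · obtain ⟨i, rfl⟩ := hgen y hy
    refine Subtype.ext ?_
    have h1 := hθv (z ^ i) (zpow_mem (hZE hz) i)
    rw [h1, show (⟨((z ^ i : S) : Ω), mem_coe (zpow_mem (hZE hz) i)⟩ : E') = l ^ i from
      Subtype.ext (by simp [hl]), _root_.map_zpow, hτl]
    simp [hl, ← zpow_natCast, ← zpow_mul, mul_comm]

namespace PearlGroup

section Group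

variable {X : Type*} [Group X] [Finite X] [hp : Fact p.Prime] (hm : IsMC p 5 X) {e : X}
  (he : e ∉ centralizer (LC X 2 : Set X))
include hm he

theorem decomp (a : X) : ∃ i : ℕ, ∃ c ∈ centralizer (LC X 2 : Set X), a = e ^ i * c := by
  have htop : zpowers e ⊔ centralizer (LC X 2 : Set X) = ⊤ := by
    rcases (Nat.dvd_prime hp.out).1 (cent_index hm ▸
      index_dvd_of_le (le_sup_right : centralizer (LC X 2 : Set X) ≤ zpowers e ⊔ centralizer (LC X 2 : Set X)))
      with h1 | h1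
    · exact index_eq_one.1 h1
    · exfalso
      refine he ?_
      have h2 := (centralizer (LC X 2 : Set X)).card_mul_index
      have h3 := (zpowers e ⊔ centralizer (LC X 2 : Set X)).card_mul_index
      rw [cent_index hm] at h2
      rw [h1, ← h2] at h3
      have h4 := eq_of_le_of_card_ge
        (le_sup_right : centralizer (LC X 2 : Set X) ≤ zpowers e ⊔ centralizer (LC X 2 : Set X))
        (Nat.eq_of_mul_eq_mul_right hp.out.pos h3).le
      rw [h4]
      exact mem_sup_left (mem_zpowers e)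
  obtain ⟨b, hb, c, hc, rfl⟩ := mem_sup_of_normal_right.1 (htop.ge (mem_top a))
  obtain ⟨i, rfl⟩ := (Submonoid.mem_powers_iff _ _).1 (mem_powers_iff_mem_zpowers.2 hb)
  exact ⟨i, c, hc, rfl⟩

theorem pow_notMem {i : ℕ} (hi : ¬ p ∣ i) : e ^ i ∉ centralizer (LC X 2 : Set X) := by
  intro h1
  refine he ?_
  obtain ⟨v, w, hvw⟩ := Int.isCoprime_iff_nat_coprime.2
    (show ((i : ℤ)).natAbs.Coprime (p : ℤ).natAbs by simpa using (hp.out.coprime_iff_not_dvd.2 hi).symm)
  have hpm : e ^ (p : ℤ) ∈ centralizer (LC X 2 : Set X) := by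
    rw [zpow_natCast]; exact one_le_cent hm (hm.pow_mem_LC_one e)
  rw [← zpow_one e, ← hvw, zpow_add, mul_comm v, mul_comm w, zpow_mul, zpow_mul, zpow_natCast]
  exact mul_mem (zpow_mem h1 _) (zpow_mem hpm _)

/-- Commutators inside `⟨e⟩ (LC k)`. -/
theorem comm_line {k : ℕ} {a b : X} (ha : a ∈ zpowers e ⊔ LC X k) (hb : b ∈ zpowers e ⊔ LC X k) :
    ⁅a, b⁆ ∈ LC X (k + 1) := by
  obtain ⟨a₁, ha₁, a₂, ha₂, rfl⟩ := mem_sup_of_normal_right.1 ha
  obtain ⟨b₁, hb₁, b₂, hb₂, rfl⟩ := mem_sup_of_normal_right.1 hb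
  obtain ⟨i, rfl⟩ := mem_zpowers_iff.1 ha₁
  obtain ⟨j, rfl⟩ := mem_zpowers_iff.1 hb₁
  refine (QuotientGroup.eq_one_iff _).1 ?_
  show QuotientGroup.mk' (LC X (k + 1)) _ = 1
  rw [map_commutatorElement, _root_.map_mul, _root_.map_mul, _root_.map_zpow, _root_.map_zpow,
    commutatorElement_eq_one_iff_commute]
  have hc : ∀ {c : X}, c ∈ LC X k → ∀ d : X,
      Commute (QuotientGroup.mk' (LC X (k + 1)) c) (QuotientGroup.mk' (LC X (k + 1)) d) :=
    fun hc d => commute_mk hm (comm_LC_left hc d)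
  refine Commute.mul_left (Commute.mul_right ((Commute.refl _).zpow_zpow i j) ?_) ?_
  · exact ((hc hb₂ e).zpow_right i).symm
  · rw [← _root_.map_zpow, ← _root_.map_mul]
    exact hc ha₂ _

theorem notMem_one : e ∉ LC X 1 := fun h1 => he (one_le_cent hm h1)

/-- An element of the centralizer moving `e` little lies deep. -/
theorem mem_two_of_comm {c : X} (hc : c ∈ centralizer (LC X 2 : Set X)) (h3 : ⁅e, c⁆ ∈ LC X 3) :
    c ∈ LC X 2 := by
  have h1 : c ∈ LC X 1 := by
    by_contra h1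
    exact (chain hm he hc h1).2.1 (LC_le (by omega : 2 ≤ 3) h3)
  by_contra h2
  exact hm.comm_not_mem le_rfl (cent_eq_TC hm ▸ he) h1 h2 h3

end Group

theorem eq_one_of_weights : ∀ {x y : ZMod 3}, x ≠ 0 → y ≠ 0 → x * y ^ 3 = x ^ 2 * y → x = 1 := by
  decide

end PearlGroup

theorem pearl_structure [hp : Fact p.Prime] (h : Hyp F p) {E : Subgroup S}
    (hE : F.IsEssential p (E.map S.subtype)) (hcard : Nat.card E = p ^ 2) :
    p = 3 ∧ HasFixedMod F ∧ (⊤ : Subgroup S).lowerCentralSeries 3 ≠ ⊥ := by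
  classical
  have hS := h.pgroup
  haveI : IsMulCommutative E := IsPGroup.isMulCommutative_of_card_eq_prime_sq hcard
  have hC : centralizer (E : Set S) = E :=
    le_antisymm (centralizer_le_of_essential hE) (le_centralizer E)
  have hm : IsMC p 5 S :=
    ⟨by omega, h.card, CfsgLib.Transfer.maxClass_of_self_centralizing h.card E hcard hC⟩
  have hnab := h.noAb _ (cent_index hm)
  have hcls : (⊤ : Subgroup S).lowerCentralSeries 3 ≠ ⊥ := fun e0 => hp.out.ne_one (by
    rw [← card_three hm, show LC S 3 = ⊥ from e0, Subgroup.card_bot])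
  obtain ⟨t, ht⟩ := exists_half (p := p) h.odd
  rw [Nat.cast_ofNat] at ht
  obtain ⟨e, heE, he3, hep, θ, hθ, hθE, hθe, hθz⟩ := pearl_torus h hE hcard hC hm ht
  have he : e ∉ centralizer (LC S 2 : Set S) :=
    notMem_cent hm hcard hC heE fun hZ => he3 ((center_eq hm).le hZ)
  have hZE : LC S 3 ≤ E := center_eq hm ▸ hC ▸ center_le_centralizer _
  have hZ2 : LC S 3 ≤ LC S 2 := LC_le (by omega)
  have h21 : LC S 2 ≤ LC S 1 := LC_le (by omega)
  have hEC : ∀ {x}, x ∈ E → x ∈ centralizer (LC S 2 : Set S) → x ∈ LC S 3 := fun hx hx' =>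
    (center_eq hm).le ((inf_cent hm hcard hC).le ⟨hx, hx'⟩)
  have hact1 : ∀ (a x : S), x⁻¹ * (a * x * a⁻¹) ∈ LC S 1 := fun a x => by
    have := comm_LC (i := 0) (j := 0) (k := 1) (mem_top x⁻¹) (mem_top a) (by omega)
    simpa [commutatorElement_def, mul_assoc] using this
  have hactk : ∀ (k : ℕ) (a x : S), x ∈ LC S k → x⁻¹ * (a * x * a⁻¹) ∈ LC S (k + 1) := fun k a x hx => by
    have := comm_LC_left (inv_mem hx) a
    simpa [commutatorElement_def, mul_assoc] using this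
  have hactZ : ∀ (a x : S), x ∈ LC S 3 → x⁻¹ * (a * x * a⁻¹) = 1 := fun a x hx =>
    Subgroup.mem_bot.1 ((four_eq_bot hm).le (hactk 3 a x hx))
  -- the normalizer of `E`
  set N1 : Subgroup S := normalizer (E : Set S) with hN1
  have hN1d : ∀ x ∈ N1, ∃ i : ℕ, ∃ c ∈ LC S 2, x = e ^ i * c := by
    intro x hx
    obtain ⟨i, c, hc, rfl⟩ := decomp hm he x
    have hcN : c ∈ N1 := by
      rw [← inv_mul_cancel_left (e ^ i) c]
      exact mul_mem (inv_mem (le_normalizer (pow_mem heE i))) hx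
    refine ⟨i, c, mem_two_of_comm hm he hc (hEC ?_ ?_), rfl⟩
    · have h1 : c * e⁻¹ * c⁻¹ ∈ E := (hcN _).1 (inv_mem heE)
      simpa [commutatorElement_def, mul_assoc] using mul_mem heE h1
    · exact one_le_cent hm (comm_LC (i := 0) (j := 0) (mem_top e) (mem_top c) le_rfl)
  have h2N : LC S 2 ≤ N1 := fun c hc => mem_normalizer_fintype fun x hx => by
    have h3 : ⁅c, x⁆ ∈ E := hZE (comm_LC_left hc x)
    simpa [commutatorElement_def, mul_assoc] using mul_mem h3 hx
  have hN1line : N1 ≤ zpowers e ⊔ LC S 2 := fun x hx => by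
    obtain ⟨i, c, hc, rfl⟩ := hN1d x hx
    exact mul_mem_sup (npow_mem_zpowers e i) hc
  have hN1C : ∀ x ∈ N1, x ∈ centralizer (LC S 2 : Set S) → x ∈ LC S 2 := by
    intro x hx hxC
    obtain ⟨i, c, hc, rfl⟩ := hN1d x hx
    have h1 : e ^ i ∈ centralizer (LC S 2 : Set S) := by
      rw [← mul_inv_cancel_right (e ^ i) c]
      exact mul_mem hxC (inv_mem (one_le_cent hm (h21 hc)))
    obtain ⟨j, rfl⟩ : p ∣ i := by
      by_contra hi
      exact pow_notMem hm he hi h1
    rw [pow_mul, hep, one_pow, one_mul]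
    exact hc
  -- first extension
  obtain ⟨θ₁, hθ₁, hθ₁N, hθ₁E⟩ := extend_chain hS h.sat (fullyNormalized_of_essential hE) 2
    (pearlSeries (LC S 3) E ⊤) rfl le_rfl
    (fun i hi => by
      rcases (show i = 0 ∨ i = 1 by omega) with rfl | rfl
      · exact bot_le
      · exact hZE)
    (fun a ha i hi x hx hxi => by
      rcases (show i = 0 ∨ i = 1 by omega) with rfl | rfl
      · exact mem_bot.2 (hactZ a x hxi)
      · exact hEC (mul_mem (inv_mem hx) ((ha x).1 hx)) (one_le_cent hm (hact1 a x)))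
    hθ hθE
    (fun i hi x hx hxi => by
      rcases (show i = 0 ∨ i = 1 ∨ i = 2 by omega) with rfl | rfl | rfl
      · rw [show x = 1 from mem_bot.1 hxi]; exact mem_bot.2 (OrderPFive.map_one hθ)
      · show θ x ∈ LC S 3
        rw [hθz x hxi]; exact pow_mem hxi t
      · exact hθE x hx)
  rw [← hN1] at hθ₁ hθ₁N
  have hθ₁z : ∀ z ∈ LC S 3, θ₁ z = z ^ t := fun z hz => by rw [hθ₁E z (hZE hz), hθz z hz]
  have hθ₁e : θ₁ e = e ^ 2 := by rw [hθ₁E e heE, hθe]
  -- the second normalizer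
  set N2 : Subgroup S := zpowers e ⊔ LC S 1 with hN2
  have h12 : N1 ≤ N2 := hN1line.trans (sup_le_sup_left h21 _)
  have hN2N : N2 ≤ normalizer (N1 : Set S) := fun a ha => mem_normalizer_fintype fun x hx => by
    have h1 : ⁅a, x⁆ ∈ N1 := h2N (comm_line hm he ha (h12 hx))
    simpa [commutatorElement_def, mul_assoc] using mul_mem h1 hx
  have hN1card : Nat.card N1 = p ^ 3 := by
    obtain ⟨k, hk⟩ := (hm.isPGroup.to_subgroup N1).exists_card_eq
    have hlt : Nat.card (LC S 2) < Nat.card N1 := by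
      refine lt_of_le_of_ne (card_le_of_le h2N) fun e0 => he ?_
      have h1 : e ∈ LC S 2 := (eq_of_le_of_card_ge h2N e0.ge).ge (le_normalizer heE)
      exact one_le_cent hm (h21 h1)
    rw [card_two hm, hk, Nat.pow_lt_pow_iff_right hp.out.one_lt] at hlt
    have hup : Nat.card N1 ≤ Nat.card (LC S 2) * p := by
      refine (card_le_of_le hN1line).trans ?_
      have hz : Nat.card (zpowers e) ≤ p := by
        rw [Nat.card_zpowers]
        exact Nat.le_of_dvd hp.out.pos (orderOf_dvd_of_pow_eq_one hep)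
      calc Nat.card (zpowers e ⊔ LC S 2 : Subgroup S)
          ≤ Nat.card (zpowers e) * Nat.card (LC S 2) := by
            rw [← Nat.card_prod]
            refine Nat.card_le_card_of_surjective
              (fun q => (⟨q.1 * q.2, mul_mem_sup q.1.2 q.2.2⟩ : (zpowers e ⊔ LC S 2 : Subgroup S))) ?_
            rintro ⟨y, hy⟩
            obtain ⟨a, ha, b, hb, rfl⟩ := mem_sup_of_normal_right.1 hy
            exact ⟨(⟨a, ha⟩, ⟨b, hb⟩), rfl⟩
        _ ≤ _ := by rw [mul_comm]; exact Nat.mul_le_mul_left _ hz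
    rw [card_two hm, hk, ← pow_succ, Nat.pow_le_pow_iff_right hp.out.one_lt] at hup
    rw [hk, show k = 3 by omega]
  have hN2card : p ^ 4 ≤ Nat.card N2 := by
    obtain ⟨k, hk⟩ := (hm.isPGroup.to_subgroup N2).exists_card_eq
    have hlt : Nat.card (LC S 1) < Nat.card N2 := by
      refine lt_of_le_of_ne (card_le_of_le le_sup_right) fun e0 => notMem_one hm he ?_
      rw [eq_of_le_of_card_ge (le_sup_right : LC S 1 ≤ N2) e0.ge]
      exact mem_sup_left (mem_zpowers e)
    rw [card_one hm, hk, Nat.pow_lt_pow_iff_right hp.out.one_lt] at hlt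
    rw [hk]
    exact Nat.pow_le_pow_right hp.out.pos (by omega)
  -- normal subgroups of order `p ^ 3` are abelian
  have hnormal : ∀ K : Subgroup S, Nat.card K = p ^ 3 → K.Normal → K = LC S 1 := fun K hK hKn => by
    haveI := hKn
    refine CfsgLib.PGroup.maxClass_normal_eq (by omega) hm.card_eq hm.class_eq K (r := 2) le_rfl ?_
    have h1 := K.card_mul_index
    rw [hK, hm.card_eq, show p ^ 5 = p ^ 3 * p ^ 2 by ring] at h1
    exact Nat.eq_of_mul_eq_mul_left (Nat.pow_pos hp.out.pos) h1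
  have hNN : Nat.card (normalizer (N1 : Set S)) ≤ p ^ 4 := by
    obtain ⟨k, hk⟩ := (hm.isPGroup.to_subgroup (normalizer (N1 : Set S))).exists_card_eq
    have hlt : Nat.card (normalizer (N1 : Set S)) < Nat.card S := by
      refine lt_of_le_of_ne (card_le_card_group _) fun e0 => notMem_one hm he ?_
      have htop : normalizer (N1 : Set S) = ⊤ := eq_top_of_card_eq _ e0
      exact (hnormal N1 hN1card (normalizer_eq_top_iff.1 htop)).le (le_normalizer heE)
    rw [hk, hm.card_eq, Nat.pow_lt_pow_iff_right hp.out.one_lt] at hlt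
    rw [hk]
    exact Nat.pow_le_pow_right hp.out.pos (by omega)
  have hN2eq : normalizer (N1 : Set S) = N2 :=
    (eq_of_le_of_card_ge hN2N (hNN.trans hN2card)).symm
  have hN1full : F.IsFullyNormalized (N1.map S.subtype) := by
    refine fullyNormalized_of_forall fun f K hf hK => ?_
    rw [hN2eq]
    refine le_trans ?_ hN2card
    have hKcard : Nat.card K = p ^ 3 := by
      rw [← hN1card]
      refine (Nat.card_congr (Equiv.ofBijective (fun x : N1 => (⟨f x, (hK _).2 ⟨x, x.2, rfl⟩⟩ : K)) ⟨?_, ?_⟩)).symm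
      · exact fun x y hxy => Subtype.ext (map_inj hf x.2 y.2 (congrArg Subtype.val hxy))
      · rintro ⟨y, hy⟩
        obtain ⟨x, hx, rfl⟩ := (hK y).1 hy
        exact ⟨⟨x, hx⟩, rfl⟩
    obtain ⟨k, hk⟩ := (hm.isPGroup.to_subgroup (normalizer (K : Set S))).exists_card_eq
    have hlt : Nat.card (normalizer (K : Set S)) < Nat.card S := by
      refine lt_of_le_of_ne (card_le_card_group _) fun e0 => he ?_
      have hKn := normalizer_eq_top_iff.1 (eq_top_of_card_eq _ e0)
      have hK1 := hnormal K hKcard hKn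
      -- then `N(E)` would be abelian
      refine mem_centralizer_iff.2 fun c hc => ?_
      have h1 := commute_one hm (hK1.le ((hK _).2 ⟨c, h2N hc, rfl⟩))
        (hK1.le ((hK _).2 ⟨e, le_normalizer heE, rfl⟩))
      rw [← map_mul hf (h2N hc) (le_normalizer heE), ← map_mul hf (le_normalizer heE) (h2N hc)] at h1
      exact map_inj hf (mul_mem (h2N hc) (le_normalizer heE)) (mul_mem (le_normalizer heE) (h2N hc)) h1
    rw [hk, hm.card_eq, Nat.pow_lt_pow_iff_right hp.out.one_lt] at hlt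
    rw [hk]
    exact Nat.pow_le_pow_right hp.out.pos (by omega)
  -- the third term is invariant
  have hθ₁2 : ∀ x ∈ LC S 2, θ₁ x ∈ LC S 2 := by
    intro v hv
    by_contra hw
    obtain ⟨i, m, hmv, hwe⟩ := hN1d _ (hθ₁N v (h2N hv))
    have hi : ¬ p ∣ i := fun ⟨j, hj⟩ => hw (by rw [hwe, hj, pow_mul, hep, one_pow, one_mul]; exact hmv)
    obtain ⟨a₀, ha₀, ha₀'⟩ := hm.exists_mem_not_mem (le_refl 1) (by omega : 1 + 2 ≤ 5)
    set d := ⁅a₀, e ^ i⁆ with hd
    have hd2 : d ∈ LC S 2 := comm_LC_left ha₀ _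
    have hd3 : d ∉ LC S 3 := fun h3 =>
      hm.comm_not_mem le_rfl (cent_eq_TC hm ▸ pow_notMem hm he hi) ha₀ ha₀'
        (by rw [← commutatorElement_inv]; exact inv_mem h3)
    have hcen : ∀ {c : S}, c ∈ LC S 2 → ∀ b : S,
        Commute (QuotientGroup.mk' (LC S 3) c) (QuotientGroup.mk' (LC S 3) b) :=
      fun hc b => commute_mk hm (comm_LC_left hc b)
    obtain ⟨d₁, hd₁, z₁, hz₁, hmd⟩ := mem_sup_of_normal_right.1 (hm.LC_gen (by omega) hd2 hd3 hmv)
    obtain ⟨j, hj⟩ := (Submonoid.mem_powers_iff _ _).1 (mem_powers_iff_mem_zpowers.2 hd₁)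
    set a := a₀ ^ j with ha
    have haE : (θ₁ v)⁻¹ * (a * e ^ i * a⁻¹) ∈ LC S 3 := by
      refine QuotientGroup.eq.1 ?_
      show QuotientGroup.mk' (LC S 3) (θ₁ v) = QuotientGroup.mk' (LC S 3) (a * e ^ i * a⁻¹)
      have hz₁' : QuotientGroup.mk' (LC S 3) z₁ = 1 := (QuotientGroup.eq_one_iff _).2 hz₁
      rw [hwe, ← hmd, ← hj, show a * e ^ i * a⁻¹ = ⁅a, (e ^ i) ^ 1⁆ * e ^ i by
        simp [commutatorElement_def, mul_assoc], _root_.map_mul, _root_.map_mul, _root_.map_mul, hz₁', mul_one,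
        map_commutatorElement, ha, _root_.map_pow (QuotientGroup.mk' (LC S 3)) a₀,
        _root_.map_pow (QuotientGroup.mk' (LC S 3)) (e ^ i),
        PearlGroup.comm_pow_pow (by rw [← map_commutatorElement]; exact hcen hd2 _)
          (by rw [← map_commutatorElement]; exact hcen hd2 _), mul_one, ← map_commutatorElement,
        ← _root_.map_pow]
      exact ((hcen (pow_mem hd2 j) (e ^ i)).symm).eq
    obtain ⟨fi, hfi, hfiN, hfil, -⟩ := map_inverse hθ₁ hθ₁N
    have hfiz : ∀ z ∈ LC S 3, fi z ∈ LC S 3 := fun z hz => by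
      obtain ⟨y, hy, rfl⟩ := map_surj_of_le hθ₁ (R := LC S 3) (hZE.trans le_normalizer)
        (fun y hy => hθ₁z y hy ▸ pow_mem hy t) hz
      rw [hfil y (le_normalizer (hZE hy))]; exact hy
    have hcj : ∀ x ∈ E, cj a x ∈ N1 := fun x hx =>
      (hN2N (mem_sup_right (pow_mem ha₀ j)) x).1 (le_normalizer hx)
    have hmapE : MapS F E (fi ∘ cj a) := map_comp (map_cj F E a) hfi hcj
    have hfe : fi (a * e ^ i * a⁻¹) ∈ LC S 2 := by
      have hae : a * e ^ i * a⁻¹ = θ₁ v * ((θ₁ v)⁻¹ * (a * e ^ i * a⁻¹)) := by group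
      rw [hae, map_mul hfi (hθ₁N v (h2N hv)) (le_normalizer (hZE haE)), hfil v (h2N hv)]
      exact mul_mem hv (hZ2 (hfiz _ haE))
    have hfe1 : fi (a * e * a⁻¹) ∈ LC S 2 := by
      obtain ⟨k, hk⟩ : ∃ k : ℕ, (e ^ i) ^ k = e := by
        obtain ⟨k, hk⟩ := exists_pow_eq_self_of_coprime (x := e) (n := i)
          ((hp.out.coprime_iff_not_dvd.2 hi).symm.coprime_dvd_right (orderOf_dvd_of_pow_eq_one hep))
        exact ⟨k, hk⟩
      have e1 : a * e * a⁻¹ = (a * e ^ i * a⁻¹) ^ k := by rw [conj_pow, hk]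
      rw [e1, map_pow hfi (show a * e ^ i * a⁻¹ ∈ N1 from hcj _ (pow_mem heE i))]
      exact pow_mem hfe k
    have hall : ∀ x ∈ E, (fi ∘ cj a) x ∈ LC S 2 := by
      intro x hx
      obtain ⟨k, c, hc, rfl⟩ := decomp hm he x
      have hcE : c ∈ E := by
        rw [← inv_mul_cancel_left (e ^ k) c]; exact mul_mem (inv_mem (pow_mem heE k)) hx
      have hc3 := hEC hcE hc
      rw [map_mul hmapE (pow_mem heE k) hcE, map_pow hmapE heE]
      refine mul_mem (pow_mem ?_ k) ?_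
      · exact hfe1
      · show fi (a * c * a⁻¹) ∈ LC S 2
        rw [← mem_center_of_three hm hc3 a, mul_inv_cancel_right]
        exact hZ2 (hfiz c hc3)
    have hle := card_normalizer_le (fullyNormalized_of_essential hE) hmapE hall
      (by rw [card_two hm, hcard])
    rw [normalizer_eq_top, Subgroup.card_top, hm.card_eq, ← hN1, hN1card,
      Nat.pow_le_pow_iff_right hp.out.one_lt] at hle
    omega
  -- second extension
  obtain ⟨θ₂, hθ₂, hθ₂N, hθ₂1⟩ := extend_chain hS h.sat hN1full 3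
    (pearlSeries (LC S 3) (LC S 2) N1) rfl le_rfl
    (fun i hi => by
      rcases (show i = 0 ∨ i = 1 ∨ i = 2 by omega) with rfl | rfl | rfl
      · exact bot_le
      · exact hZ2
      · exact h2N)
    (fun a ha i hi x hx hxi => by
      rcases (show i = 0 ∨ i = 1 ∨ i = 2 by omega) with rfl | rfl | rfl
      · exact mem_bot.2 (hactZ a x hxi)
      · exact hactk 2 a x hxi
      · exact hN1C _ (mul_mem (inv_mem hx) ((ha x).1 hx)) (one_le_cent hm (hact1 a x)))
    hθ₁ hθ₁N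
    (fun i hi x hx hxi => by
      rcases (show i = 0 ∨ i = 1 ∨ i = 2 ∨ i = 3 by omega) with rfl | rfl | rfl | rfl
      · rw [show x = 1 from mem_bot.1 hxi]; exact mem_bot.2 (OrderPFive.map_one hθ₁)
      · show θ₁ x ∈ LC S 3
        rw [hθ₁z x hxi]; exact pow_mem hxi t
      · exact hθ₁2 x hxi
      · exact hθ₁N x hx)
  rw [hN2eq] at hθ₂ hθ₂N
  have hθ₂2 : ∀ x ∈ LC S 2, θ₂ x ∈ LC S 2 := fun x hx => by
    rw [hθ₂1 x (h2N hx)]; exact hθ₁2 x hx
  have hN2C : ∀ x ∈ N2, x ∈ centralizer (LC S 2 : Set S) → x ∈ LC S 1 := by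
    intro x hx hxC
    obtain ⟨b, hb, c, hc, rfl⟩ := mem_sup_of_normal_right.1 hx
    obtain ⟨i, rfl⟩ := (Submonoid.mem_powers_iff _ _).1 (mem_powers_iff_mem_zpowers.2 hb)
    have h1 : e ^ i ∈ centralizer (LC S 2 : Set S) := by
      rw [← mul_inv_cancel_right (e ^ i) c]; exact mul_mem hxC (inv_mem (one_le_cent hm hc))
    obtain ⟨j, rfl⟩ : p ∣ i := by
      by_contra hi
      exact pow_notMem hm he hi h1
    rw [pow_mul, hep, one_pow, one_mul]
    exact hc
  have hθ₂C : ∀ x ∈ LC S 1, θ₂ x ∈ LC S 1 := fun x hx => by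
    refine hN2C _ (hθ₂N x (mem_sup_right hx)) (mem_centralizer_iff.2 fun y hy => ?_)
    have h2le : LC S 2 ≤ N2 := h21.trans le_sup_right
    obtain ⟨w, hw, rfl⟩ := map_surj_of_le hθ₂ h2le hθ₂2 hy
    rw [← map_mul hθ₂ (h2le hw) (mem_sup_right hx), ← map_mul hθ₂ (mem_sup_right hx) (h2le hw),
      commute_one hm (h21 hw) hx]
  -- third extension
  obtain ⟨θ₃, hθ₃, hθ₃2⟩ := extend_top hS h.sat
    (Q := N2) (Subgroup.Normal.of_commutator_le _ (by rw [← top_lowerCentralSeries_one]; exact le_sup_right)) 4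
    (pearlSeries (LC S 3) (LC S 2) (LC S 1)) rfl le_top
    (fun i hi => by
      rcases (show i = 0 ∨ i = 1 ∨ i = 2 ∨ i = 3 by omega) with rfl | rfl | rfl | rfl
      · exact bot_le
      · exact hZ2
      · exact h21
      · exact le_top)
    (fun a i hi x hx hxi => by
      rcases (show i = 0 ∨ i = 1 ∨ i = 2 ∨ i = 3 by omega) with rfl | rfl | rfl | rfl
      · exact mem_bot.2 (hactZ a x hxi)
      · exact hactk 2 a x hxi
      · exact hactk 1 a x hxi
      · exact hact1 a x)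
    hθ₂ hθ₂N
    (fun i hi x hx hxi => by
      rcases (show i = 0 ∨ i = 1 ∨ i = 2 ∨ i = 3 ∨ i = 4 by omega) with rfl | rfl | rfl | rfl | rfl
      · rw [show x = 1 from mem_bot.1 hxi]; exact mem_bot.2 (OrderPFive.map_one hθ₂)
      · show θ₂ x ∈ LC S 3
        rw [hθ₂1 x (h2N (hZ2 hxi)), hθ₁z x hxi]; exact pow_mem hxi t
      · exact hθ₂2 x hxi
      · exact hθ₂C x hxi
      · trivial)
  -- maps of `S` preserve the layers
  have haut : ∀ f : S → S, MapS F ⊤ f → ∃ α : MulAut S, ∀ x, α x = f x := fun f hf => by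
    have hbij : Function.Bijective f := Finite.injective_iff_bijective.1 fun x y hxy =>
      map_inj hf (mem_top x) (mem_top y) hxy
    exact ⟨MulEquiv.ofBijective (MonoidHom.mk' f fun x y => map_mul hf (mem_top x) (mem_top y)) hbij,
      fun x => rfl⟩
  have hlay : ∀ (α : MulAut S) (k : ℕ) (x : S), x ∈ LC S k → α x ∈ LC S k := fun α k x hx => by
    have h1 := map_LC α.toMonoidHom α.surjective k
    exact h1.le (mem_map_of_mem _ hx)
  have hlayC : ∀ (α : MulAut S) {x : S}, x ∈ centralizer (LC S 2 : Set S) →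
      α x ∈ centralizer (LC S 2 : Set S) := fun α x hx => mem_centralizer_iff.2 fun y hy => by
    have h1 := mem_centralizer_iff.1 hx (α⁻¹ y) (hlay α⁻¹ 2 y hy)
    have h2 := congrArg α h1
    simpa using h2
  obtain ⟨s, hs, hs'⟩ : ∃ s ∈ centralizer (LC S 2 : Set S), s ∉ LC S 1 := by
    by_contra hc
    push Not at hc
    refine hnab ⟨⟨fun a b => Subtype.ext ?_⟩⟩
    exact commute_one hm (hc a a.2) (hc b b.2)
  have hsd : ∀ α : MulAut S, ∃ b : ℕ, ∃ g ∈ LC S 1, α s = s ^ b * g := fun α => by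
    obtain ⟨c, hc, g, hg, hcg⟩ := mem_sup_of_normal_right.1 ((cent_gen hm hs hs').le (hlayC α hs))
    obtain ⟨b, rfl⟩ := (Submonoid.mem_powers_iff _ _).1 (mem_powers_iff_mem_zpowers.2 hc)
    exact ⟨b, g, hg, hcg.symm⟩
  have hb0 : ∀ (α : MulAut S) {b : ℕ} {g : S}, g ∈ LC S 1 → α s = s ^ b * g → (b : ZMod p) ≠ 0 := by
    intro α b g hg hbg h0
    obtain ⟨j, rfl⟩ := (ZMod.natCast_eq_zero_iff _ _).1 h0
    refine hs' ?_
    have h1 : α s ∈ LC S 1 := by
      rw [hbg, pow_mul]; exact mul_mem (pow_mem (hm.pow_mem_LC_one s) j) hg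
    have h2 := hlay α⁻¹ 1 _ h1
    simpa using h2
  -- the prime
  have hp3 : p = 3 := by
    obtain ⟨α, hα⟩ := haut θ₃ hθ₃
    obtain ⟨b, g, hg, hbg⟩ := hsd α
    have hαe : α e = e ^ 2 * 1 := by
      rw [hα, hθ₃2 e (mem_sup_left (mem_zpowers e)), hθ₂1 e (le_normalizer heE), hθ₁e, mul_one]
    have hαz : ∀ z ∈ LC S 3, α z = z ^ t := fun z hz => by
      rw [hα, hθ₃2 z (mem_sup_right (h21 (hZ2 hz))), hθ₂1 z (h2N (hZ2 hz)), hθ₁z z hz]
    obtain ⟨w1, w2⟩ := weight hm hnab he hs hs' α (one_mem _) hαe hg hbg hαz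
    push_cast at w1 w2
    have hb := hb0 α hg hbg
    have h4 : (b : ZMod p) * 2 = 8 := by
      refine mul_left_cancel₀ hb ?_
      linear_combination w2 - w1
    have h63 : ((63 : ℕ) : ZMod p) = 0 := by
      push_cast
      linear_combination 2 * w1 - 8 * h4 + ht
    have hdvd : p ∣ 3 ^ 2 * 7 := (ZMod.natCast_eq_zero_iff _ _).1 h63
    rcases hp.out.dvd_mul.1 hdvd with hd | hd
    · exact (Nat.prime_dvd_prime_iff_eq hp.out Nat.prime_three).1 (hp.out.dvd_of_dvd_pow hd)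
    · exact absurd ((Nat.prime_dvd_prime_iff_eq hp.out (by norm_num)).1 hd) h.ne_seven
  refine ⟨hp3, ⟨s, ?_, fun f hf => ?_⟩, hcls⟩
  · rw [← top_lowerCentralSeries_one]; exact hs'
  obtain ⟨α, hα⟩ := haut f hf
  rw [← top_lowerCentralSeries_one, ← hα]
  obtain ⟨b, g, hg, hbg⟩ := hsd α
  obtain ⟨i, c, hc, hαe⟩ := decomp hm he (α e)
  obtain ⟨⟨z₀, hz₀⟩, hz₀1⟩ := (LC S 3).ne_bot_iff_exists_ne_one.1 fun e0 =>
    hp.out.ne_one (by rw [← card_three hm, e0, Subgroup.card_bot])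
  have hgen : ∀ z ∈ LC S 3, ∃ k : ℕ, z₀ ^ k = z := fun z hz => by
    obtain ⟨k, hk⟩ := (Submonoid.mem_powers_iff _ _).1 (mem_powers_iff_mem_zpowers.2
      ((zpowers_eq_top_of_prime_card (card_three hm) hz₀1).ge (mem_top (⟨z, hz⟩ : LC S 3))))
    exact ⟨k, congrArg Subtype.val hk⟩
  obtain ⟨w, hw⟩ := hgen _ (hlay α 3 z₀ hz₀)
  obtain ⟨w1, w2⟩ := weight hm hnab he hs hs' α hc hαe hg hbg (e := w) fun z hz => by
    obtain ⟨k, rfl⟩ := hgen z hz
    rw [_root_.map_pow, ← hw, ← pow_mul, ← pow_mul, mul_comm]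
  have hb := hb0 α hg hbg
  have hi : (i : ZMod p) ≠ 0 := by
    intro h0
    obtain ⟨j, rfl⟩ := (ZMod.natCast_eq_zero_iff _ _).1 h0
    refine he ?_
    have h1 : α e ∈ centralizer (LC S 2 : Set S) := by
      rw [hαe, pow_mul]; exact mul_mem (pow_mem (one_le_cent hm (hm.pow_mem_LC_one e)) j) hc
    have h2 := hlayC α⁻¹ h1
    simpa using h2
  subst hp3
  have hb1 : (b : ZMod 3) = 1 := by
    exact eq_one_of_weights hb hi (w1.trans w2.symm)
  have hb1' : b % 3 = 1 := by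
    rw [← Nat.cast_one, ZMod.natCast_eq_natCast_iff'] at hb1
    omega
  rw [hbg, ← mul_assoc, show s⁻¹ * s ^ b = (s ^ 3) ^ (b / 3) by
    rw [← pow_mul]
    conv_lhs => rw [show b = 1 + 3 * (b / 3) by omega, pow_add, pow_one, inv_mul_cancel_left]]
  exact mul_mem (pow_mem (hm.pow_mem_LC_one s) _) hg

end CfsgLib.Fusion.OrderPFive
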