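import Cfsg.Agent.Lib.Fusion.OrderPFive.Kit
import Cfsg.Agent.Lib.Invol.EssentialSmall
import Cfsg.Agent.Lib.Solvable.Nilpotent

/-!
With trivial core, a system on a group of order `p ^ 5` without abelian subgroup of index `p` has an
essential subgroup that is elementary abelian of order `p ^ 2` or `p ^ 3`.
-/

set_option autoImplicit false
set_option linter.style.haveILetI false
set_option linter.unusedSectionVars false

namespace CfsgLib.Fusion.OrderPFive

open Cfsg Cfsg.FusionSystem Subgroup CfsgLib.Fusion CfsgLib.MaxClassEss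
open scoped commutatorElement

section Group

variable {G : Type*} [Group G] [Finite G] {p : ℕ} [hp : Fact p.Prime]

/-- With central quotient of order `p ^ 2` the derived subgroup has order at most `p`. -/
theorem card_commutator_le (hG : IsPGroup p G) (hc : (center G).index = p ^ 2) :
    Nat.card (_root_.commutator G) ≤ p := by
  let π := QuotientGroup.mk' (center G)
  have hQ : Nat.card (G ⧸ center G) = p ^ 2 := by rw [← index_eq_card, hc]
  have hnc : ¬ IsCyclic (G ⧸ center G) := fun h => by
    have hab := commutative_of_cyclic_center_quotient π (QuotientGroup.ker_mk' _).le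
    have : center G = ⊤ := eq_top_iff.2 fun x _ => Subgroup.mem_center_iff.2 fun g => hab g x
    rw [this, index_top] at hc
    exact (Nat.one_lt_pow two_ne_zero hp.out.one_lt).ne hc
  have hpow : ∀ x : G, x ^ p ∈ center G := fun x => (QuotientGroup.eq_one_iff _).1 (by
    show π (x ^ p) = 1
    rw [_root_.map_pow]
    by_contra hx
    refine hnc (isCyclic_of_orderOf_eq_card (π x) ?_)
    obtain ⟨i, hi, he⟩ := (Nat.dvd_prime_pow hp.out).1 (hQ ▸ orderOf_dvd_natCard (π x))
    have : i = 2 := by
      by_contra h2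
      exact hx (orderOf_dvd_iff_pow_eq_one.1
        (he ▸ (pow_dvd_pow p (show i ≤ 1 by omega)).trans (pow_one p).dvd))
    rw [he, this, hQ])
  obtain ⟨a, ha⟩ : ∃ a, a ∉ center G := by
    by_contra h
    push Not at h
    have htop : center G = ⊤ := eq_top_iff.2 fun x _ => h x
    rw [htop, index_top] at hc
    exact (Nat.one_lt_pow two_ne_zero hp.out.one_lt).ne hc
  set C := centralizer ({a} : Set G)
  have hZC : center G ≤ C := center_le_centralizer _
  have haC : a ∈ C := mem_centralizer_singleton_iff.2 rfl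
  obtain ⟨b, hb⟩ : ∃ b, b ∉ C := by
    by_contra h
    push Not at h
    exact ha (Subgroup.mem_center_iff.2 fun g => mem_centralizer_singleton_iff.1 (h g))
  have hCi : C.index = p := by
    obtain ⟨i, hi⟩ := hG.index C
    have h1 := Subgroup.relIndex_mul_index hZC
    rw [hc, hi] at h1
    have h2 : i ≠ 0 := fun h => hb (by
      have htop : C = ⊤ := index_eq_one.1 (by rw [hi, h, pow_zero])
      rw [htop]; exact mem_top b)
    have h3 : (center G).relIndex C ≠ 1 := fun h => ha (relIndex_eq_one.1 h haC)
    obtain ⟨j, hj, hje⟩ := (Nat.dvd_prime_pow hp.out).1 (Dvd.intro _ h1)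
    rw [hje, ← pow_add] at h1
    have h4 := Nat.pow_right_injective hp.out.two_le h1
    have h5 : j ≠ 0 := fun h => h3 (by rw [hje, h, pow_zero])
    rw [hi, show i = 1 by omega, pow_one]
  set N0 := zpowers ⁅a, b⁆
  have habZ : ⁅a, b⁆ ∈ center G := (QuotientGroup.eq_one_iff _).1 (by
    show π ⁅a, b⁆ = 1
    rw [map_commutatorElement, commutatorElement_eq_one_iff_mul_comm]
    exact (IsPGroup.isMulCommutative_of_card_eq_prime_sq hQ).is_comm.comm _ _)
  haveI : N0.Normal := ⟨fun x hx g => by
    rw [Subgroup.mem_center_iff.1 ((zpowers_le.2 habZ) hx) g, mul_inv_cancel_right]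
    exact hx⟩
  let ρ := QuotientGroup.mk' N0
  have hρab : Commute (ρ a) (ρ b) := by
    rw [← commutatorElement_eq_one_iff_commute, ← map_commutatorElement]
    exact (QuotientGroup.eq_one_iff _).2 (mem_zpowers _)
  -- every element is a product of a power of `b` and an element of `C`
  have hsplit : C ⊔ zpowers b = ⊤ := by
    have hle : C ≤ C ⊔ zpowers b := le_sup_left
    have h1 := Subgroup.relIndex_mul_index hle
    rw [hCi] at h1
    rcases (Nat.dvd_prime hp.out).1 (Dvd.intro_left _ h1) with h | h
    · exact index_eq_one.1 h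
    · rw [h] at h1
      exact absurd (relIndex_eq_one.1 (Nat.eq_of_mul_eq_mul_right hp.out.pos
        (h1.trans (one_mul p).symm)) (mem_sup_right (mem_zpowers b))) hb
  have hρa : ∀ g, Commute (ρ a) (ρ g) := fun g => by
    have htop : (centralizer {ρ a}).comap ρ = ⊤ := by
      rw [eq_top_iff, ← hsplit]
      exact sup_le (fun x hx => mem_centralizer_singleton_iff.2
          (by rw [← _root_.map_mul, ← _root_.map_mul, mem_centralizer_singleton_iff.1 hx]))
        (zpowers_le.2 (mem_centralizer_singleton_iff.2 hρab.symm.eq))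
    exact (mem_centralizer_singleton_iff.1 (htop.ge (mem_top g))).symm
  -- and of `C` a power of `a` and a central element
  have hCsplit : center G ⊔ zpowers a = C := by
    have hle : center G ⊔ zpowers a ≤ C := sup_le hZC (zpowers_le.2 haC)
    refine le_antisymm hle ?_
    have h1 := Subgroup.relIndex_mul_index (le_sup_left : center G ≤ center G ⊔ zpowers a)
    have h2 := Subgroup.relIndex_mul_index hle
    rw [hc] at h1
    rw [hCi] at h2
    have h3 : (center G).relIndex (center G ⊔ zpowers a) ≠ 1 := fun h =>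
      ha (relIndex_eq_one.1 h (mem_sup_right (mem_zpowers a)))
    refine relIndex_eq_one.1 ?_
    obtain ⟨i, hi⟩ := hG.index (center G ⊔ zpowers a)
    obtain ⟨j, -, hje⟩ := (Nat.dvd_prime_pow hp.out).1 (Dvd.intro _ h1)
    obtain ⟨k, hk⟩ : ∃ k, (center G ⊔ zpowers a).relIndex C = p ^ k := by
      obtain ⟨k, -, hk⟩ := (Nat.dvd_prime_pow hp.out).1 (hi ▸ Dvd.intro _ h2)
      exact ⟨k, hk⟩
    rw [hje, hi, ← pow_add] at h1
    rw [hk, hi, ← pow_succ] at h2
    have h4 := Nat.pow_right_injective hp.out.two_le h1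
    have h5 := Nat.pow_right_injective hp.out.two_le h2
    have h6 : j ≠ 0 := fun h => h3 (by rw [hje, h, pow_zero])
    rw [hk, show k = 0 by omega, pow_zero]
  have hρall : ∀ g h, Commute (ρ g) (ρ h) := fun g h => by
    have htop : (centralizer {ρ h}).comap ρ = ⊤ := by
      rw [eq_top_iff, ← hsplit, ← hCsplit]
      refine sup_le (sup_le (fun x hx => mem_centralizer_singleton_iff.2 ?_)
        (zpowers_le.2 (mem_centralizer_singleton_iff.2 (hρa h).eq))) (zpowers_le.2
        (mem_centralizer_singleton_iff.2 ?_))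
      · rw [← _root_.map_mul, ← _root_.map_mul, Subgroup.mem_center_iff.1 hx h]
      · have htop' : (centralizer {ρ b}).comap ρ = ⊤ := by
          rw [eq_top_iff, ← hsplit, ← hCsplit]
          refine sup_le (sup_le (fun x hx => mem_centralizer_singleton_iff.2 ?_)
            (zpowers_le.2 (mem_centralizer_singleton_iff.2 hρab.eq))) (zpowers_le.2
            (mem_centralizer_singleton_iff.2 rfl))
          rw [← _root_.map_mul, ← _root_.map_mul, Subgroup.mem_center_iff.1 hx b]
        exact (mem_centralizer_singleton_iff.1 (htop'.ge (mem_top h))).symm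
    exact mem_centralizer_singleton_iff.1 (htop.ge (mem_top g))
  have hle : _root_.commutator G ≤ N0 := by
    rw [_root_.commutator_def, commutator_le]
    exact fun g _ h _ => (QuotientGroup.eq_one_iff _).1 (by
      show ρ ⁅g, h⁆ = 1
      rw [map_commutatorElement, commutatorElement_eq_one_iff_commute]
      exact hρall g h)
  refine (Subgroup.card_le_of_le hle).trans ?_
  rw [Nat.card_zpowers]
  refine Nat.le_of_dvd hp.out.pos (orderOf_dvd_of_pow_eq_one ?_)
  have h1 : ∀ m : ℕ, ⁅a, b⁆ ^ m = ⁅a ^ m, b⁆ := fun m => by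
    induction m with
    | zero => simp
    | succ m ih =>
      have hcc := Subgroup.mem_center_iff.1 habZ
      rw [pow_succ, ih, show ⁅a ^ (m + 1), b⁆ = a ^ m * ⁅a, b⁆ * (a ^ m)⁻¹ * ⁅a ^ m, b⁆ by
          simp [commutatorElement_def, pow_succ, mul_assoc], hcc (a ^ m), mul_inv_cancel_right,
        hcc ⁅a ^ m, b⁆]
  rw [h1, commutatorElement_eq_one_iff_mul_comm]
  exact (Subgroup.mem_center_iff.1 (hpow a) b).symm

end Group

variable {Ω : Type*} [Group Ω] {S : Subgroup Ω} [Finite S] {p : ℕ} [hp : Fact p.Prime]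
  {F : FusionSystem S}

/-- Abelian subgroups have order at most `p ^ 3`. -/
theorem Hyp.card_abelian_le (h : Hyp F p) (A : Subgroup S) [hA : IsMulCommutative A] :
    Nat.card A ≤ p ^ 3 := by
  obtain ⟨i, hi⟩ := (IsPGroup.of_card h.card).to_subgroup A |>.exists_card_eq
  rw [hi]
  refine Nat.pow_le_pow_right hp.out.pos ?_
  by_contra hcon
  obtain ⟨B, hBc⟩ := Sylow.exists_subgroup_card_pow_prime p (G := A) (n := 4)
    (hi ▸ pow_dvd_pow p (by omega))
  refine h.noAb (B.map A.subtype) ?_ ⟨⟨?_⟩⟩
  · have h1 := (B.map A.subtype).card_mul_index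
    rw [card_map_of_injective A.subtype_injective, hBc, h.card, pow_succ p 4] at h1
    exact Nat.eq_of_mul_eq_mul_left (pow_pos hp.out.pos 4) h1
  · rintro ⟨_, a, -, rfl⟩ ⟨_, b, -, rfl⟩
    exact Subtype.ext (congrArg (fun t : A => (t : S)) (hA.is_comm.comm a b))

/-- The centre has order at most `p ^ 2`. -/
theorem Hyp.card_center_le (h : Hyp F p) : Nat.card (center S) ≤ p ^ 2 := by
  obtain ⟨i, hi⟩ := ((IsPGroup.of_card h.card).to_subgroup (center S)).exists_card_eq
  rw [hi]
  refine Nat.pow_le_pow_right hp.out.pos ?_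
  by_contra hcon
  obtain ⟨x, hx⟩ : ∃ x, x ∉ center S := by
    by_contra hall
    push Not at hall
    haveI : IsMulCommutative (⊤ : Subgroup S) := ⟨⟨fun a b => Subtype.ext
      (Subgroup.mem_center_iff.1 (hall b) a)⟩⟩
    have h1 := h.card_abelian_le ⊤
    rw [Subgroup.card_top, h.card, Nat.pow_le_pow_iff_right hp.out.one_lt] at h1
    omega
  haveI : IsMulCommutative (center S ⊔ zpowers x : Subgroup S) := ⟨⟨fun a b => Subtype.ext (by
    have hle : (center S ⊔ zpowers x : Subgroup S) ≤ centralizer {x} :=
      sup_le (center_le_centralizer _) (zpowers_le.2 (mem_centralizer_singleton_iff.2 rfl))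
    have hle2 : (center S ⊔ zpowers x : Subgroup S) ≤ centralizer {(a : S)} :=
      sup_le (center_le_centralizer _) (zpowers_le.2 (mem_centralizer_singleton_iff.2
        (mem_centralizer_singleton_iff.1 (hle a.2)).symm))
    exact (mem_centralizer_singleton_iff.1 (hle2 b.2)).symm)⟩⟩
  have h1 := h.card_abelian_le (center S ⊔ zpowers x)
  have hlt : Nat.card (center S) < Nat.card (center S ⊔ zpowers x : Subgroup S) := by
    refine lt_of_le_of_ne (Subgroup.card_le_of_le le_sup_left) fun e => hx ?_
    rw [eq_of_le_of_card_ge (le_sup_left : center S ≤ center S ⊔ zpowers x) e.ge]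
    exact mem_sup_right (mem_zpowers x)
  rw [hi] at hlt
  have := Nat.pow_lt_pow_iff_right hp.out.one_lt |>.1 (hlt.trans_le h1)
  omega

/-- An automorphism of a nonabelian essential subgroup preserves the centre of `S`. -/
theorem center_invariant (h : Hyp F p) {P : Subgroup Ω} (hP : F.IsEssential p P)
    (hnab : ¬ IsMulCommutative P) :
    (center S).map S.subtype ≤ P ∧
      ∀ α ∈ F.autGroup P, ∀ x : P, (x : Ω) ∈ (center S).map S.subtype →
        ((α x : P) : Ω) ∈ (center S).map S.subtype := by
  have hPS := hP.1.1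
  haveI := finite_of_le hPS
  set Q := (center S).map S.subtype with hQdef
  have hQP : Q ≤ P := fun z hz => by
    obtain ⟨z, hzc, rfl⟩ := hz
    exact hP.1.2 P (isConj_refl hPS) ⟨z.2, mem_centralizer_iff.2 fun y hy =>
      congrArg Subtype.val (Subgroup.mem_center_iff.1 hzc ⟨y, hPS hy⟩)⟩
  refine ⟨hQP, ?_⟩
  set Y : Subgroup P := Q.subgroupOf P
  have hYc : Nat.card Y = Nat.card (center S) := by
    rw [Nat.card_congr (subgroupOfEquivOfLe hQP).toEquiv,
      card_map_of_injective S.subtype_injective]
  have hYZ : Y ≤ center P := fun z hz => Subgroup.mem_center_iff.2 fun g => Subtype.ext (by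
    obtain ⟨w, hw, hwz⟩ := mem_subgroupOf.1 hz
    have h1 := congrArg Subtype.val (Subgroup.mem_center_iff.1 hw ⟨g, hPS g.2⟩)
    simp only [coe_mul, coe_subtype] at h1 hwz ⊢
    rw [← hwz]
    exact h1)
  suffices hY : ∃ X : Subgroup P, X.Characteristic ∧ X = Y by
    obtain ⟨X, hX, rfl⟩ := hY
    intro α _ x hx
    exact mem_subgroupOf.1 (Subgroup.characteristic_iff_map_le.1 hX α
      ⟨x, mem_subgroupOf.2 hx, rfl⟩)
  by_cases hcc : Nat.card (center P) ≤ Nat.card Y
  · exact ⟨center P, inferInstance, (eq_of_le_of_card_ge hYZ hcc).symm⟩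
  haveI : Nontrivial S := Finite.one_lt_card_iff_nontrivial.1
    (h.card ▸ Nat.one_lt_pow (by norm_num) hp.out.one_lt)
  obtain ⟨j, hj⟩ := ((IsPGroup.of_card h.card).to_subgroup (center S)).exists_card_eq
  obtain ⟨k, hk⟩ := ((h.pgroup.to_le hPS).to_subgroup (center P)).exists_card_eq
  obtain ⟨e, he⟩ := (h.pgroup.to_le hPS).exists_card_eq
  have hj0 : j ≠ 0 := fun h0 => by
    haveI := h.pgroup.center_nontrivial
    have := Finite.one_lt_card (α := center S)
    rw [hj, h0, pow_zero] at this
    exact lt_irrefl _ this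
  rw [hYc, hj, hk, not_le, Nat.pow_lt_pow_iff_right hp.out.one_lt] at hcc
  have he4 : e ≤ 4 := by
    have hlt : Nat.card P < Nat.card S := by
      refine lt_of_le_of_ne (Subgroup.card_le_of_le hPS) fun hce => ?_
      exact (lt_of_essential h.pgroup h.sat hP).ne (eq_of_le_of_card_ge hPS hce.ge)
    rw [he, h.card, Nat.pow_lt_pow_iff_right hp.out.one_lt] at hlt
    omega
  have hidx := (center P).card_mul_index
  rw [hk, he] at hidx
  obtain ⟨m, hm⟩ := (h.pgroup.to_le hPS).index (center P)
  rw [hm, ← pow_add] at hidx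
  have hkm := Nat.pow_right_injective hp.out.two_le hidx
  have hm2 : 2 ≤ m := by
    by_contra hm1
    haveI : IsCyclic (P ⧸ center P) := by
      rcases (show m = 0 ∨ m = 1 by omega) with rfl | rfl
      · haveI : Subsingleton (P ⧸ center P) := Finite.card_le_one_iff_subsingleton.1
          (by rw [← index_eq_card, hm, pow_zero])
        exact isCyclic_of_subsingleton
      · exact isCyclic_of_prime_card (p := p) (by rw [← index_eq_card, hm, pow_one])
    exact hnab ⟨⟨commutative_of_cyclic_center_quotient (QuotientGroup.mk' (center P))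
      (QuotientGroup.ker_mk' _).le⟩⟩
  obtain rfl : m = 2 := by omega
  obtain rfl : j = 1 := by omega
  have hle := card_commutator_le (h.pgroup.to_le hPS) hm
  refine ⟨_root_.commutator P, inferInstance, (eq_of_le_of_card_ge ?_ ?_).symm⟩
  · -- the derived subgroup is normal in `S`
    have hidxP : (P.subgroupOf S).index = p := by
      have h1 := (P.subgroupOf S).card_mul_index
      rw [Nat.card_congr (subgroupOfEquivOfLe hPS).toEquiv, he, h.card,
        show e = 4 by omega, pow_succ p 4] at h1
      exact Nat.eq_of_mul_eq_mul_left (pow_pos hp.out.pos 4) h1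
    haveI hPn : (P.subgroupOf S).Normal := normal_of_index_eq_minFac_card (by
      rw [hidxP, h.card, hp.out.pow_minFac (by norm_num)])
    set D : Subgroup S := ⁅P.subgroupOf S, P.subgroupOf S⁆
    haveI := (IsPGroup.of_card h.card).isNilpotent
    have hDne : D ≠ ⊥ := fun hD => hnab ⟨⟨fun a b => Subtype.ext (congrArg
      (fun t : S => (t : Ω)) (commutatorElement_eq_one_iff_mul_comm.1
        ((Subgroup.eq_bot_iff_forall _).1 hD _ (commutator_mem_commutator
          (show (⟨a, hPS a.2⟩ : S) ∈ P.subgroupOf S from a.2)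
          (show (⟨b, hPS b.2⟩ : S) ∈ P.subgroupOf S from b.2)))))⟩⟩
    have h1 := CfsgLib.Solvable.normal_inf_center_ne_bot D hDne
    have hZD : center S ≤ D := by
      refine le_trans (eq_of_le_of_card_ge (inf_le_right : D ⊓ center S ≤ center S) ?_).ge
        inf_le_left
      rw [hj]
      obtain ⟨c, hc⟩ := ((IsPGroup.of_card h.card).to_subgroup (D ⊓ center S)).exists_card_eq
      rw [hc, pow_one]
      exact Nat.le_self_pow (fun h0 => h1 (eq_bot_of_card_eq _ (by rw [hc, h0, pow_zero]))) p
    have hDP : D ≤ ((_root_.commutator P).map P.subtype).comap S.subtype :=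
      commutator_le.2 fun a ha b hb => ⟨⁅(⟨a, ha⟩ : P), (⟨b, hb⟩ : P)⁆,
        commutator_mem_commutator (mem_top _) (mem_top _), rfl⟩
    intro y hy
    obtain ⟨w, hw, hwy⟩ := mem_subgroupOf.1 hy
    obtain ⟨d, hd, hdw⟩ := hDP (hZD hw)
    have : d = y := Subtype.ext (hdw.trans hwy)
    exact this ▸ hd
  · rw [hYc, hj, pow_one]
    exact hle

/-- Some essential subgroup is elementary abelian of order `p ^ 2` or `p ^ 3`. -/
theorem exists_abelian_essential (h : Hyp F p) (hcore : F.core = ⊥) :
    ∃ E : Subgroup S, F.IsEssential p (E.map S.subtype) ∧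
      (Nat.card E = p ^ 2 ∨
        (Cfsg.IsElementaryAbelian p (E.map S.subtype) ∧ Nat.card E = p ^ 3)) := by
  haveI : Nontrivial S := Finite.one_lt_card_iff_nontrivial.1
    (h.card ▸ Nat.one_lt_pow (by norm_num) hp.out.one_lt)
  obtain ⟨P, hP, hab⟩ : ∃ P, F.IsEssential p P ∧ IsMulCommutative P := by
    by_contra hcon
    push Not at hcon
    have hQ : F.IsNormal ((center S).map S.subtype) := by
      refine isNormal_of_alperin h.pgroup h.sat (map_subtype_le _) fun P hP => ?_
      rcases hP with rfl | hP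
      · refine ⟨map_subtype_le _, fun α _ x hx => ?_⟩
        obtain ⟨z, hz, hzx⟩ := hx
        refine ⟨α z, Subgroup.characteristic_iff_map_le.1 inferInstance α ⟨z, hz, rfl⟩, ?_⟩
        rw [show x = z from Subtype.ext hzx.symm]
        rfl
      · exact center_invariant h hP (hcon P hP)
    have hle : (center S).map S.subtype ≤ F.core := le_sSup hQ
    rw [hcore, le_bot_iff, Subgroup.map_eq_bot_iff_of_injective _ S.subtype_injective] at hle
    haveI := h.pgroup.center_nontrivial
    exact (Subgroup.nontrivial_iff_ne_bot _).1 inferInstance hle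
  haveI := finite_of_le hP.1.1
  obtain ⟨E, rfl⟩ : ∃ E : Subgroup S, E.map S.subtype = P :=
    ⟨P.subgroupOf S, map_subgroupOf_eq_of_le hP.1.1⟩
  refine ⟨E, hP, ?_⟩
  haveI hEab : IsMulCommutative E := ⟨⟨fun a b => Subtype.ext (Subtype.ext
    (congrArg (fun t : E.map S.subtype => (t : Ω))
      (hab.is_comm.comm ⟨_, mem_coe a.2⟩ ⟨_, mem_coe b.2⟩)))⟩⟩
  obtain ⟨i, hi⟩ := ((IsPGroup.of_card h.card).to_subgroup E).exists_card_eq
  have hi3 : i ≤ 3 := (Nat.pow_le_pow_iff_right hp.out.one_lt).1 (hi ▸ h.card_abelian_le E)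
  have hcE : Nat.card (E.map S.subtype) = p ^ i := by
    rw [card_map_of_injective S.subtype_injective, hi]
  have hne := CfsgLib.Invol.EssentialSmall.not_pTrivialAut h.pgroup h.sat hP
  rcases (show i ≤ 1 ∨ i = 2 ∨ i = 3 by omega) with hi1 | rfl | rfl
  · exfalso
    haveI : IsCyclic (E.map S.subtype) := by
      rcases (show i = 0 ∨ i = 1 by omega) with rfl | rfl
      · haveI : Subsingleton (E.map S.subtype) :=
          Finite.card_le_one_iff_subsingleton.1 (by rw [hcE, pow_zero])
        exact isCyclic_of_subsingleton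
      · exact isCyclic_of_prime_card (p := p) (by rw [hcE, pow_one])
    exact hne (CfsgLib.Invol.EssentialSmall.pTrivialAut_of_cyclic
      (h.pgroup.to_le hP.1.1))
  · exact Or.inl hi
  · refine Or.inr ⟨?_, hi⟩
    rcases CfsgLib.Invol.EssentialSmall.card_cube h.pgroup h.sat hP hcE with he | ⟨-, he, -⟩ | ⟨he, -⟩
    · exact he
    · exfalso
      have htop : center (E.map S.subtype) = ⊤ := eq_top_iff.2 fun x _ =>
        Subgroup.mem_center_iff.2 fun g => hab.is_comm.comm g x
      have h1 := he.2
      rw [htop, Subgroup.card_top, hcE] at h1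
      exact (Nat.pow_right_injective hp.out.two_le (h1.trans (pow_one p).symm)).not_gt (by norm_num)
    · exact absurd he h.odd

end CfsgLib.Fusion.OrderPFive
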