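import Cfsg.Agent.Lib.Fusion.OrderPFive.Norm
import Cfsg.Agent.Lib.Fusion.OrderPFive.Kit
import Cfsg.Agent.Lib.Solvable.Nilpotent
import Cfsg.Agent.Lib.PGroup.MetacyclicTwoAut

/-!
Transfer on a group of order `3 ^ 5`: a fixed element modulo the derived subgroup and small class
exclude a full hyperfocal subgroup.
-/

set_option autoImplicit false
set_option linter.style.haveILetI false
set_option linter.unusedSectionVars false

open Subgroup

namespace CfsgLib.Fusion.OrderPFive

open CfsgLib.Fusion CfsgLib.MaxClassEss CfsgLib.Coprime.MaxClassUniform Cfsg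
open scoped commutatorElement

section Group

variable {T : Type*} [Group T]

/-- A subgroup above a subgroup of prime index and an element outside it is everything. -/
theorem eq_top_of_le_of_not_mem {M C : Subgroup T} (hMi : M.index.Prime) {z : T} (hz : z ∉ M)
    (hMC : M ≤ C) (hzC : z ∈ C) : C = ⊤ := by
  have h1 := Subgroup.relIndex_mul_index hMC
  rcases (Nat.dvd_prime hMi).1 (Dvd.intro_left _ h1) with h | h
  · exact index_eq_one.1 h
  · rw [h] at h1
    have h2 : M.relIndex C = 1 := Nat.eq_of_mul_eq_mul_right hMi.pos (by rw [h1, one_mul])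
    exact absurd (relIndex_eq_one.1 h2 hzC) hz

variable [Finite T] [Fact (Nat.Prime 3)]

/-- A normal subgroup above the centre, not inside it, contains the second centre. -/
theorem le_of_normal_of_not_le {n : ℕ} (hmc : IsMC 3 n T) (hn : 4 ≤ n) (N : Subgroup T) [N.Normal]
    (hZ : center T ≤ N) (hne : ¬ N ≤ center T) : LC T (n - 3) ≤ N := by
  let π := QuotientGroup.mk' (center T)
  have hs : Function.Surjective π := QuotientGroup.mk'_surjective _
  have hQ := hmc.of_surjective hn π hs (QuotientGroup.ker_mk' _)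
  haveI := hQ.isNilpotent
  haveI : (N.map π).Normal := Subgroup.Normal.map inferInstance π hs
  have hne' : N.map π ≠ ⊥ := fun h => hne fun x hx =>
    (QuotientGroup.eq_one_iff x).1 ((Subgroup.eq_bot_iff_forall _).1 h _ (mem_map_of_mem π hx))
  have h1 := CfsgLib.Solvable.normal_inf_center_ne_bot (N.map π) hne'
  have h2 : N.map π ⊓ center (T ⧸ center T) = center (T ⧸ center T) := by
    refine eq_of_le_of_card_ge inf_le_right ?_
    rw [hQ.card_center]
    obtain ⟨c, hc⟩ := (hQ.isPGroup.to_subgroup (N.map π ⊓ center (T ⧸ center T))).exists_card_eq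
    rw [hc]
    refine Nat.le_self_pow (fun h0 => h1 ?_) 3
    exact eq_bot_of_card_eq _ (by rw [hc, h0, pow_zero])
  intro x hx
  have h3 : π x ∈ N.map π := by
    refine (h2.symm.le.trans inf_le_left) ?_
    rw [hQ.center_eq, show n - 1 - 2 = n - 3 by omega, ← map_LC π hs]
    exact mem_map_of_mem π hx
  obtain ⟨a, ha, hax⟩ := h3
  have h4 : a⁻¹ * x ∈ center T := QuotientGroup.eq.1 hax
  simpa using mul_mem ha (hZ h4)

/-- A maximal subgroup of a group of order `3 ^ 5` of class `4`, or of class at most `3` with small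
centre, has no character with nontrivial norm. -/
theorem false_of_norm (hT : Nat.card T = 3 ^ 5) (M : Subgroup T) [M.Normal] (hMi : M.index = 3)
    (hMab : ¬ IsMulCommutative M)
    (hcls : (Nat.card (center T) = 3 ∧ LC T 2 ≤ center T) ∨ LC T 3 ≠ ⊥)
    {A : Type*} [CommGroup A] (χ : M →* A) (hA : ∀ a : A, a ^ 3 = 1) {z : T} (hz : z ∉ M)
    (y : M) (hprod : ∏ i ∈ Finset.range 3,
      χ ⟨(z ^ i)⁻¹ * y * z ^ i, CfsgLib.Invol.conjPow_mem y.2 (z ^ i)⟩ ≠ 1) : False := by
  classical
  haveI := (IsPGroup.of_card hT).isNilpotent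
  have hMp : M.index.Prime := hMi.symm ▸ Nat.prime_three
  have hmc : LC T 3 ≠ ⊥ → IsMC 3 5 T := fun h => ⟨by norm_num, hT, le_antisymm
    ((CfsgLib.Transfer.nilpotencyClass_le_of_card hT).trans (max_le le_rfl (by norm_num))) (by
      by_contra hc
      exact h (Subgroup.lowerCentralSeries_eq_bot_iff_nilpotencyClass_le.2 (by omega)))⟩
  have hZ3 : Nat.card (center T) = 3 := by
    rcases hcls with h | h
    · exact h.1
    · exact (hmc h).card_center
  set K : Subgroup T := χ.ker.map M.subtype with hKdef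
  have hKmem : ∀ {a : T} (ha : a ∈ M), a ∈ K ↔ χ ⟨a, ha⟩ = 1 := fun {a} ha => by
    constructor
    · rintro ⟨b, hb, rfl⟩
      exact hb
    · exact fun h => ⟨⟨a, ha⟩, h, rfl⟩
  set N0 := K.normalCore with hN0
  have hN0K : N0 ≤ K := K.normalCore_le
  have hder : ⁅M, M⁆ ≤ K := commutator_le.2 fun a ha b hb => by
    have hab : ⁅a, b⁆ ∈ M :=
      mul_mem (mul_mem (mul_mem ha hb) (inv_mem ha)) (inv_mem hb)
    rw [hKmem hab, show (⟨⁅a, b⁆, hab⟩ : M) = ⁅(⟨a, ha⟩ : M), (⟨b, hb⟩ : M)⁆ from Subtype.ext rfl,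
      map_commutatorElement, commutatorElement_eq_one_iff_mul_comm]
    exact mul_comm _ _
  have hderN : ⁅M, M⁆ ≤ N0 := normal_le_normalCore.2 hder
  have hZN : center T ≤ N0 := by
    refine le_trans ?_ hderN
    have hne : ⁅M, M⁆ ≠ ⊥ := fun h => hMab ⟨⟨fun a b => Subtype.ext
      (commutatorElement_eq_one_iff_mul_comm.1
        ((Subgroup.eq_bot_iff_forall _).1 h _ (commutator_mem_commutator a.2 b.2)))⟩⟩
    have h1 := CfsgLib.Solvable.normal_inf_center_ne_bot ⁅M, M⁆ hne
    have h2 : ⁅M, M⁆ ⊓ center T = center T := by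
      refine eq_of_le_of_card_ge inf_le_right ?_
      rw [hZ3]
      obtain ⟨c, hc⟩ := ((IsPGroup.of_card hT).to_subgroup (⁅M, M⁆ ⊓ center T)).exists_card_eq
      rw [hc]
      exact Nat.le_self_pow (fun h0 => h1 (eq_bot_of_card_eq _ (by rw [hc, h0, pow_zero]))) 3
    exact h2.symm.le.trans inf_le_left
  -- conjugation by `z`
  let σ : MulAut T := MulAut.conj z⁻¹
  have hσ : ∀ x, σ x = z⁻¹ * x * z := fun x => by simp [σ]
  have hσM : ∀ {x}, x ∈ M → σ x ∈ M := fun {x} hx => ‹M.Normal›.conj_mem x hx z⁻¹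
  have hσcomm : ∀ x, x⁻¹ * σ x = ⁅x⁻¹, z⁻¹⁆ := fun x => by
    simp [hσ, commutatorElement_def, mul_assoc]
  obtain ⟨d, hd⟩ : ∃ d, d = (y : T)⁻¹ * σ y := ⟨_, rfl⟩
  have hdM : d ∈ M := hd.symm ▸ mul_mem (inv_mem y.2) (hσM y.2)
  obtain ⟨d', hd'⟩ : ∃ d', d' = d⁻¹ * σ d := ⟨_, rfl⟩
  have hd'M : d' ∈ M := hd'.symm ▸ mul_mem (inv_mem hdM) (hσM hdM)
  have hd1 : d ∈ LC T 1 := by
    rw [hd, hσcomm]
    exact commutator_mem_commutator (mem_top _) (mem_top _)
  have hd'2 : d' ∈ LC T 2 := by
    rw [hd', hσcomm]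
    exact commutator_mem_commutator (inv_mem hd1) (mem_top _)
  have hs1 : σ y = y * d := by rw [hd, mul_inv_cancel_left]
  have hs2 : σ d = d * d' := by rw [hd', mul_inv_cancel_left]
  have hd'K : d' ∉ K := by
    rw [hKmem hd'M]
    intro h
    refine hprod ?_
    have e0 : ∀ h', (⟨(z ^ 0)⁻¹ * y * z ^ 0, h'⟩ : M) = y := fun h' => Subtype.ext (by simp)
    have e1 : ∀ h', (⟨(z ^ 1)⁻¹ * y * z ^ 1, h'⟩ : M) = y * ⟨d, hdM⟩ := fun h' =>
      Subtype.ext (by
        show (z ^ 1)⁻¹ * (y : T) * z ^ 1 = y * d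
        rw [pow_one, ← hσ, hs1])
    have e2 : ∀ h', (⟨(z ^ 2)⁻¹ * y * z ^ 2, h'⟩ : M) = y * ⟨d, hdM⟩ * (⟨d, hdM⟩ * ⟨d', hd'M⟩) :=
      fun h' => Subtype.ext (by
        show (z ^ 2)⁻¹ * (y : T) * z ^ 2 = y * d * (d * d')
        have hss : σ (σ (y : T)) = y * d * (d * d') := by rw [hs1, _root_.map_mul, hs1, hs2]
        rw [← hss, hσ, hσ, pow_two]
        simp [mul_assoc])
    rw [Finset.prod_range_succ, Finset.prod_range_succ, Finset.prod_range_succ,
      Finset.prod_range_zero, one_mul, e0, e1, e2]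
    simp only [_root_.map_mul, h, mul_one]
    rw [show χ y * (χ y * χ ⟨d, hdM⟩) * (χ y * χ ⟨d, hdM⟩ * χ ⟨d, hdM⟩) =
      χ y ^ 3 * χ ⟨d, hdM⟩ ^ 3 by
        simp only [pow_succ, pow_zero, one_mul, mul_assoc, mul_comm, mul_left_comm],
      hA, hA, one_mul]
  rcases hcls with ⟨-, h⟩ | hcls
  · exact hd'K (hN0K (hZN (h hd'2)))
  have hm := hmc hcls
  have hN0Z : N0 ≤ center T := by
    by_contra h
    exact hd'K (hN0K (le_of_normal_of_not_le hm (by norm_num) N0 hZN h hd'2))
  have hMM : ∀ a ∈ M, ∀ b ∈ M, ⁅a, b⁆ ∈ center T := fun a ha b hb =>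
    hN0Z (hderN (commutator_mem_commutator ha hb))
  have hcube : ∀ w ∈ M, w ^ 3 ∈ center T := fun w hw => hN0Z fun g => by
    rw [← conj_pow]
    have hc : g * w * g⁻¹ ∈ M := ‹M.Normal›.conj_mem w hw g
    show (g * w * g⁻¹) ^ 3 ∈ K
    rw [hKmem (pow_mem hc 3),
      show (⟨(g * w * g⁻¹) ^ 3, pow_mem hc 3⟩ : M) = ⟨g * w * g⁻¹, hc⟩ ^ 3 from Subtype.ext rfl,
      _root_.map_pow, hA]
  have hLM : LC T 1 ≤ M := by
    haveI := isCyclic_of_prime_card (α := T ⧸ M) (p := 3) (by rw [← index_eq_card, hMi])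
    refine commutator_le.2 fun a _ b _ => (QuotientGroup.eq_one_iff _).1 ?_
    show QuotientGroup.mk' M ⁅a, b⁆ = 1
    rw [map_commutatorElement, commutatorElement_eq_one_iff_mul_comm]
    exact (IsCyclic.commGroup (α := T ⧸ M)).mul_comm _ _
  have hL12 : ∀ a ∈ LC T 1, ∀ b ∈ LC T 2, Commute a b := fun a ha b hb => by
    have h1 := comm_LC ha hb (k := 4) (by norm_num)
    rw [hm.LC_eq_bot (by norm_num), mem_bot] at h1
    exact commutatorElement_eq_one_iff_commute.1 h1
  have hL11 : ∀ a ∈ LC T 1, ∀ b ∈ LC T 1, Commute a b := by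
    obtain ⟨u, hu, hu'⟩ := hm.exists_mem_not_mem le_rfl (by norm_num)
    have key : ∀ a ∈ LC T 1, Commute u a := fun a ha => by
      obtain ⟨c, hc, e, he, rfl⟩ := mem_sup_of_normal_right.1 (hm.LC_gen le_rfl hu hu' ha)
      obtain ⟨i, rfl⟩ := mem_zpowers_iff.1 hc
      exact ((Commute.refl u).zpow_right i).mul_right (hL12 u hu e he)
    intro a ha b hb
    obtain ⟨c, hc, e, he, rfl⟩ := mem_sup_of_normal_right.1 (hm.LC_gen le_rfl hu hu' ha)
    obtain ⟨i, rfl⟩ := mem_zpowers_iff.1 hc
    exact ((key b hb).zpow_left i).mul_left (hL12 b hb e he).symm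
  have hL2M : ⁅LC T 2, M⁆ = ⊥ := by
    show ⁅⁅LC T 1, (⊤ : Subgroup T)⁆, M⁆ = ⊥
    refine commutator_commutator_eq_bot_of_rotate ?_ ?_
    · rw [eq_bot_iff]
      refine (commutator_mono (show ⁅(⊤ : Subgroup T), M⁆ ≤ LC T 1 from
        commutator_mono le_rfl le_top) le_rfl).trans ?_
      rw [commutator_le]
      exact fun a ha b hb => mem_bot.2 (commutatorElement_eq_one_iff_commute.2 (hL11 a ha b hb))
    · rw [eq_bot_iff, commutator_le]
      intro a ha b _
      have h1 : a ∈ center T :=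
        (commutator_le.2 fun x hx w hw => hMM x hx w (hLM hw)) ha
      exact mem_bot.2 (commutatorElement_eq_one_iff_mul_comm.2 (Subgroup.mem_center_iff.1 h1 b).symm)
  have hcomm2 : ∀ c ∈ LC T 2, ∀ x ∈ M, Commute c x := fun c hc x hx =>
    commutatorElement_eq_one_iff_commute.1
      ((Subgroup.eq_bot_iff_forall _).1 hL2M _ (commutator_mem_commutator hc hx))
  -- `z` does not centralize `d'`
  obtain ⟨d'', hd''⟩ : ∃ d'', d'' = d'⁻¹ * σ d' := ⟨_, rfl⟩
  have hs3 : σ d' = d' * d'' := by rw [hd'', mul_inv_cancel_left]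
  have hd''ne : d'' ≠ 1 := by
    intro h
    refine hd'K (hN0K (hZN ?_))
    rw [h, mul_one, hσ] at hs3
    have h1 : Commute z d' := by
      have h2 : z * (z⁻¹ * d' * z) = z * d' := by rw [hs3]
      rw [← mul_assoc, mul_inv_cancel_left] at h2
      exact h2.symm
    have htop := eq_top_of_le_of_not_mem hMp hz (C := centralizer {d'})
      (fun x hx => mem_centralizer_singleton_iff.2 (hcomm2 d' hd'2 x hx).symm.eq)
      (mem_centralizer_singleton_iff.2 h1.eq)
    exact Subgroup.mem_center_iff.2 fun g => mem_centralizer_singleton_iff.1 (htop.ge (mem_top g))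
  -- `z ^ 3` lies in the second centre
  have hwM : z ^ 3 ∈ M := by
    have h1 := M.pow_index_mem z
    rwa [hMi] at h1
  have hw1 : z ^ 3 ∈ LC T 1 := by
    by_contra hw
    obtain ⟨u, hu, hu'⟩ := hm.exists_mem_not_mem le_rfl (by norm_num)
    refine hu' ?_
    let π := QuotientGroup.mk' (LC T 2)
    have hgen : M ≤ zpowers (z ^ 3) ⊔ LC T 1 := by
      have hle : zpowers (z ^ 3) ⊔ LC T 1 ≤ M := sup_le (zpowers_le.2 hwM) hLM
      refine (eq_of_le_of_card_ge hle ?_).ge
      have hMc : Nat.card M = 3 ^ 4 := by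
        have h1 := M.card_mul_index
        rw [hT, hMi] at h1
        omega
      have hlt : Nat.card (LC T 1) < Nat.card (zpowers (z ^ 3) ⊔ LC T 1 : Subgroup T) := by
        refine lt_of_le_of_ne (card_le_of_le le_sup_right) fun e => hw ?_
        rw [eq_of_le_of_card_ge (le_sup_right : LC T 1 ≤ zpowers (z ^ 3) ⊔ LC T 1) e.ge]
        exact mem_sup_left (mem_zpowers _)
      obtain ⟨c, hc⟩ := ((IsPGroup.of_card hT).to_subgroup
        (zpowers (z ^ 3) ⊔ LC T 1 : Subgroup T)).exists_card_eq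
      rw [hc, hm.card_LC le_rfl (by norm_num), Nat.pow_lt_pow_iff_right (by norm_num)] at hlt
      rw [hc, hMc]
      exact Nat.pow_le_pow_right (by norm_num) (by omega)
    have hπz : ∀ x ∈ M, Commute (π z) (π x) := by
      intro x hx
      obtain ⟨a, ha, c, hc, rfl⟩ := mem_sup_of_normal_right.1 (hgen hx)
      obtain ⟨i, rfl⟩ := mem_zpowers_iff.1 ha
      rw [_root_.map_mul]
      refine Commute.mul_right ?_ ?_
      · rw [← zpow_natCast, ← zpow_mul, map_zpow]
        exact (Commute.refl _).zpow_right _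
      · rw [← commutatorElement_eq_one_iff_commute, ← map_commutatorElement]
        exact (QuotientGroup.eq_one_iff _).2 (comm_LC_right z hc)
    have hπM : ∀ x ∈ M, ∀ w ∈ M, Commute (π x) (π w) := fun x hx w hw' => by
      rw [← commutatorElement_eq_one_iff_commute, ← map_commutatorElement]
      refine (QuotientGroup.eq_one_iff _).2 (LC_le (show 2 ≤ 3 by norm_num) ?_)
      rw [← hm.center_eq]
      exact hMM x hx w hw'
    have hzc : ∀ g : T, Commute (π z) (π g) := fun g => by
      have htop := eq_top_of_le_of_not_mem hMp hz (C := (centralizer {π z}).comap π)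
        (fun x hx => mem_centralizer_singleton_iff.2 (hπz x hx).symm.eq)
        (mem_centralizer_singleton_iff.2 rfl)
      exact (mem_centralizer_singleton_iff.1 (htop.ge (mem_top g))).symm
    have hall : (center (T ⧸ LC T 2)).comap π = ⊤ := by
      refine eq_top_of_le_of_not_mem hMp hz (fun x hx => Subgroup.mem_center_iff.2 fun q => ?_)
        (Subgroup.mem_center_iff.2 fun q => ?_)
      · obtain ⟨g, rfl⟩ := QuotientGroup.mk'_surjective _ q
        have htop := eq_top_of_le_of_not_mem hMp hz (C := (centralizer {π x}).comap π)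
          (fun w hw' => mem_centralizer_singleton_iff.2 (hπM w hw' x hx).eq)
          (mem_centralizer_singleton_iff.2 (hπz x hx).eq)
        exact mem_centralizer_singleton_iff.1 (htop.ge (mem_top g))
      · obtain ⟨g, rfl⟩ := QuotientGroup.mk'_surjective _ q
        exact (hzc g).symm.eq
    have hle : LC T 1 ≤ LC T 2 := commutator_le.2 fun a _ b _ => (QuotientGroup.eq_one_iff _).1 (by
      show π ⁅a, b⁆ = 1
      rw [map_commutatorElement, commutatorElement_eq_one_iff_mul_comm]
      exact (Subgroup.mem_center_iff.1 (hall.ge (mem_top a)) (π b)).symm)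
    exact hle hu
  have hw2 : z ^ 3 ∈ LC T 2 := by
    by_contra hw
    obtain ⟨u, hu, hu'⟩ := hm.exists_mem_not_mem (i := 2) (by norm_num) (by norm_num)
    refine hu' ?_
    let π := QuotientGroup.mk' (LC T 3)
    have hzw : Commute z (z ^ 3) := (Commute.refl z).pow_right 3
    have htop : (centralizer {π (z ^ 3)}).comap π = ⊤ := by
      refine eq_top_of_le_of_not_mem hMp hz (fun x hx => mem_centralizer_singleton_iff.2 ?_)
        (mem_centralizer_singleton_iff.2 (hzw.map π).eq)
      rw [← commutatorElement_eq_one_iff_mul_comm, ← map_commutatorElement]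
      refine (QuotientGroup.eq_one_iff _).2 ?_
      rw [← hm.center_eq]
      exact hMM x hx _ hwM
    have hle : LC T 2 ≤ LC T 3 := by
      refine (show ⁅LC T 1, (⊤ : Subgroup T)⁆ ≤ LC T 3 from commutator_le.2 fun a ha g _ => ?_)
      obtain ⟨b, hb, c, hc, rfl⟩ := mem_sup_of_normal_right.1 (hm.LC_gen le_rfl hw1 hw ha)
      obtain ⟨i, rfl⟩ := mem_zpowers_iff.1 hb
      refine (QuotientGroup.eq_one_iff _).1 ?_
      show π ⁅(z ^ 3) ^ i * c, g⁆ = 1
      rw [map_commutatorElement, commutatorElement_eq_one_iff_commute, _root_.map_mul, map_zpow]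
      refine Commute.mul_left (Commute.zpow_left ?_ i) ?_
      · exact (mem_centralizer_singleton_iff.1 (htop.ge (mem_top g))).symm
      · rw [← commutatorElement_eq_one_iff_commute, ← map_commutatorElement]
        exact (QuotientGroup.eq_one_iff _).2 (comm_LC_left hc g)
    exact hle hu
  -- the cube of `σ` on `y`
  have hcyc : ∀ c ∈ center T, c ^ 3 = 1 := fun c hc => by
    have h1 := pow_card_eq_one' (x := (⟨c, hc⟩ : center T))
    rw [hZ3] at h1
    exact congrArg Subtype.val h1
  have hfixc : ∀ c ∈ center T, σ c = c := fun c hc => by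
    rw [hσ, mul_assoc, ← Subgroup.mem_center_iff.1 hc z, inv_mul_cancel_left]
  have hd3 : d ^ 3 = 1 := by
    have h1 : σ ((y : T) ^ 3) = (y : T) ^ 3 := hfixc _ (hcube y y.2)
    have h2 : ∀ g : T, Commute ⁅d, (y : T)⁆ g := fun g =>
      (Subgroup.mem_center_iff.1 (hMM d hdM y y.2) g).symm
    rw [_root_.map_pow, hs1, CfsgLib.PGroup.mul_pow_of_central_comm (y : T) d h2,
      show Nat.choose 3 2 = 3 by decide, hcyc _ (hMM d hdM y y.2), mul_one, mul_eq_left] at h1
    exact h1
  have hd'3 : d' ^ 3 = 1 := by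
    have h1 : (σ d) ^ 3 = 1 := by rw [← _root_.map_pow, hd3, _root_.map_one]
    rw [hs2, (hL11 d hd1 d' (LC_le (by norm_num) hd'2)).mul_pow, hd3, one_mul] at h1
    exact h1
  have h3 : σ (σ (σ (y : T))) = y := by
    simp only [hσ]
    rw [show z⁻¹ * (z⁻¹ * (z⁻¹ * (y : T) * z) * z) * z = (z ^ 3)⁻¹ * y * z ^ 3 by simp [pow_succ, mul_assoc],
      mul_assoc, ← (hcomm2 _ hw2 y y.2).eq, inv_mul_cancel_left]
  have h4 : σ (σ (σ (y : T))) = (y : T) * d * (d * d') * (d * d' * (d' * d'')) := by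
    have hss : σ (σ (y : T)) = y * d * (d * d') := by rw [hs1, _root_.map_mul, hs1, hs2]
    rw [hss, _root_.map_mul, _root_.map_mul, _root_.map_mul, hs1, hs2, hs3]
  rw [h4] at h3
  have hcdd : Commute d d' := hL11 d hd1 d' (LC_le (by norm_num) hd'2)
  have e : (y : T) * d * (d * d') * (d * d' * (d' * d'')) = y * d'' := by
    calc (y : T) * d * (d * d') * (d * d' * (d' * d''))
        = y * (d * d * (d' * d) * d' * d') * d'' := by simp only [mul_assoc]
      _ = y * (d * d * (d * d') * d' * d') * d'' := by rw [hcdd.eq]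
      _ = y * (d ^ 3 * d' ^ 3) * d'' := by simp only [pow_succ, pow_zero, one_mul, mul_assoc]
      _ = y * d'' := by rw [hd3, hd'3, one_mul, mul_one]
  rw [e, mul_eq_left] at h3
  exact hd''ne h3

end Group

section Fixed

universe v

variable {Ω : Type v} [Group Ω] {S : Subgroup Ω} [Finite S] {p : ℕ} [Fact p.Prime]
  {F : FusionSystem S}

/-- A fixed element modulo the derived subgroup gives a proper subgroup above the derived subgroup
on whose quotient the automorphisms of `S` in the system act trivially. -/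
theorem exists_invariant (hS : IsPGroup p S) (hF : F.IsSaturated p) (hfix : HasFixedMod F) :
    ∃ L : Subgroup Ω, ⁅S, S⁆ ≤ L ∧ ¬ S ≤ L ∧
      ∀ f : Ω → Ω, IsMap F S f → ∀ x ∈ S, x⁻¹ * f x ∈ L := by
  classical
  obtain ⟨x₀, hx₀, hfix⟩ := hfix
  set G := F.autGroup S
  haveI : Finite G := finite_autGroup (le_refl S)
  let ρ : G →* MulAut (Abelianization S) := (CfsgLib.Invol.PlanePairs.abAut S).comp G.subtype
  obtain ⟨-, T, hT⟩ := fullyAutomized_of_fullyNormalized hS hF (fullyNormalized_top F)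
  have hTker : (T : Subgroup G) ≤ ρ.ker := fun α hα => by
    rw [hT, mem_subgroupOf] at hα
    obtain ⟨a, ha, hax⟩ := mem_autInducedBy_iff.1 hα
    refine MulEquiv.ext fun b => ?_
    obtain ⟨s, rfl⟩ := QuotientGroup.mk_surjective b
    show CfsgLib.Invol.PlanePairs.abAut S (α : MulAut S) (Abelianization.of s) = Abelianization.of s
    rw [CfsgLib.Invol.PlanePairs.abAut_of,
      show (α : MulAut S) s = ⟨a, ha⟩ * s * (⟨a, ha⟩ : S)⁻¹ from Subtype.ext (hax s),
      _root_.map_mul, _root_.map_mul, _root_.map_inv, mul_inv_cancel_comm]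
  have hR : ¬ p ∣ Nat.card ρ.range := by
    rw [← index_ker]
    exact fun h => T.not_dvd_index (h.trans (index_dvd_of_le hTker))
  haveI : Fintype ρ.range := Fintype.ofFinite _
  let ν : Abelianization S →* Abelianization S :=
    MonoidHom.mk' (fun b => ∏ r : ρ.range, (r : MulAut (Abelianization S)) b) fun a b => by
      simp only [_root_.map_mul, Finset.prod_mul_distrib]
  refine ⟨((ν.comp Abelianization.of).ker).map S.subtype, ?_, ?_, ?_⟩
  · rw [commutator_le]
    intro a ha b hb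
    refine ⟨⁅(⟨a, ha⟩ : S), (⟨b, hb⟩ : S)⁆, ?_, rfl⟩
    show ν (Abelianization.of _) = 1
    rw [map_commutatorElement, commutatorElement_eq_one_iff_mul_comm.2 (mul_comm _ _),
      _root_.map_one]
  · intro hle
    obtain ⟨s, hs, hsx⟩ := hle x₀.2
    rw [show s = x₀ from Subtype.ext hsx] at hs
    have h1 : ν (Abelianization.of x₀) = 1 := hs
    have h2 : ∀ r : ρ.range, (r : MulAut (Abelianization S)) (Abelianization.of x₀) =
        Abelianization.of x₀ := by
      rintro ⟨_, α, rfl⟩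
      obtain ⟨f, hf, hfx⟩ := mapS_of_isMap (Q := (⊤ : Subgroup S))
        (g := toFun (S.subtype.comp (α : MulAut S).toMonoidHom)) (by
          rw [← MonoidHom.range_eq_map, Subgroup.range_subtype]
          exact isMap_of_autGroup le_rfl α.2)
      show CfsgLib.Invol.PlanePairs.abAut S (α : MulAut S) (Abelianization.of x₀) = _
      rw [CfsgLib.Invol.PlanePairs.abAut_of]
      have h3 : (α : MulAut S) x₀ = f x₀ := Subtype.ext (by
        rw [hfx x₀ (mem_top _), toFun_aut_apply _ x₀.2])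
      rw [h3]
      exact (QuotientGroup.eq.2 (hfix f hf)).symm
    change ∏ r : ρ.range, (r : MulAut (Abelianization S)) (Abelianization.of x₀) = 1 at h1
    rw [Finset.prod_congr rfl fun r _ => h2 r, Finset.prod_const, Finset.card_univ,
      ← Nat.card_eq_fintype_card] at h1
    obtain ⟨k, hk⟩ := hS x₀
    have h4 : Abelianization.of x₀ ^ p ^ k = 1 := by rw [← _root_.map_pow, hk, _root_.map_one]
    refine hx₀ ((QuotientGroup.eq_one_iff x₀).1 ?_)
    exact orderOf_eq_one_iff.1 (Nat.eq_one_of_dvd_coprimes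
      (((Fact.out : p.Prime).coprime_iff_not_dvd.2 hR).pow_left k)
      (orderOf_dvd_of_pow_eq_one h4) (orderOf_dvd_of_pow_eq_one h1))
  · intro f hf x hx
    have hi : img S f = S := eq_of_le_of_card_le hf.img_le hf.card_img.ge
    let α : G := ⟨hf.toAut hi, hf.toAut_mem hi⟩
    refine ⟨(⟨x, hx⟩ : S)⁻¹ * (α : MulAut S) ⟨x, hx⟩, ?_, ?_⟩
    · show ν (Abelianization.of _) = 1
      rw [_root_.map_mul, _root_.map_inv, ← CfsgLib.Invol.PlanePairs.abAut_of, _root_.map_mul,
        _root_.map_inv, inv_mul_eq_one]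
      exact (Fintype.prod_equiv (Equiv.mulRight (⟨ρ α, α, rfl⟩ : ρ.range))
        (fun r : ρ.range => (r : MulAut (Abelianization S)) (ρ α (Abelianization.of ⟨x, hx⟩)))
        (fun r : ρ.range => (r : MulAut (Abelianization S)) (Abelianization.of ⟨x, hx⟩))
        fun r => rfl).symm
    · show x⁻¹ * ((hf.toAut hi ⟨x, hx⟩ : S) : Ω) = x⁻¹ * f x
      rw [IsMap.toAut_apply]

/-- The hyperfocal subgroup is not everything on a group of order `3 ^ 5` without abelian subgroup
of index `3`, with a fixed element modulo the derived subgroup and small or maximal class. -/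
theorem false_of_three [Fact (Nat.Prime 3)] {F : FusionSystem S} (h : Hyp F 3) (hfix : HasFixedMod F)
    (hcls : (Nat.card (center S) = 3 ∧ (⊤ : Subgroup S).lowerCentralSeries 2 ≤ center S) ∨
      (⊤ : Subgroup S).lowerCentralSeries 3 ≠ ⊥)
    (hhyp : F.hyperfocalSubgroup 3 = S) : False := by
  obtain ⟨L, hL, hSL, hLα⟩ := exists_invariant h.pgroup h.sat hfix
  have hne : ¬ F.focalSubgroup ≤ L := fun hle =>
    hSL (hhyp.ge.trans ((hyperfocal_le_focal F 3).trans hle))
  obtain ⟨M, hMn, A, _, χ, z, y, hMi, hz, hA, hprod⟩ :=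
    CfsgLib.Invol.NormTransfer.exists_norm h.pgroup h.sat L hL hLα hne
  exact false_of_norm h.card M hMi (h.noAb M hMi) hcls χ hA hz y hprod

end Fixed

end CfsgLib.Fusion.OrderPFive
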